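import Mathlib

/-!
Lib/MinIndexPSU3/FiveData: certificate data for the triple cover of `A₇` inside `SU₃(5)`: two generators,
a list of 105 lines they permute, subgroups of orders 7, 5, 8 and 27 with their words, and an element
moving the lines.
-/

set_option autoImplicit false

namespace Cfsg.Agent.Lib.MinIndexPSU3

/-- Codes `5 a + b` standing for `a + b r`, `r ^ 2 = 2`. -/
abbrev P5 : Type := ℕ
/-- Triples. -/
abbrev V5 : Type := P5 × P5 × P5
/-- Matrices by rows. -/
abbrev M5 : Type := V5 × V5 × V5

/-- The two generators. -/
def gen5 : Bool → M5
  | false => ((0,15,2),(4,12,19),(7,5,2))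
  | true => ((0,3,15),(2,5,1),(15,4,15))

/-- The lines. -/
def lines5 : List V5 := [
  (0,5,5), (0,5,16),
  (0,5,22), (5,0,1),
  (5,0,11), (5,0,13),
  (5,1,2), (5,1,21),
  (5,1,22), (5,2,8),
  (5,2,9), (5,2,12),
  (5,2,15), (5,2,17),
  (5,2,20), (5,2,22),
  (5,2,24), (5,3,4),
  (5,3,6), (5,3,17),
  (5,4,0), (5,4,14),
  (5,4,16), (5,5,3),
  (5,5,17), (5,5,24),
  (5,6,3), (5,6,11),
  (5,6,12), (5,6,20),
  (5,6,23), (5,7,10),
  (5,7,21), (5,7,24),
  (5,8,3), (5,8,4),
  (5,8,7), (5,8,10),
  (5,8,14), (5,8,15),
  (5,8,19), (5,8,22),
  (5,9,4), (5,9,15),
  (5,9,19), (5,9,21),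
  (5,9,23), (5,10,3),
  (5,10,6), (5,10,7),
  (5,10,21), (5,10,22),
  (5,11,5), (5,11,21),
  (5,11,22), (5,12,10),
  (5,12,16), (5,12,18),
  (5,13,2), (5,13,3),
  (5,13,6), (5,13,9),
  (5,13,10), (5,13,12),
  (5,13,13), (5,13,20),
  (5,14,1), (5,14,9),
  (5,14,18), (5,15,10),
  (5,15,17), (5,15,18),
  (5,15,22), (5,15,23),
  (5,16,1), (5,16,7),
  (5,16,22), (5,17,0),
  (5,17,13), (5,17,17),
  (5,18,3), (5,18,17),
  (5,18,24), (5,19,0),
  (5,19,6), (5,19,24),
  (5,20,5), (5,20,9),
  (5,20,19), (5,21,3),
  (5,21,5), (5,21,8),
  (5,21,16), (5,21,17),
  (5,22,3), (5,22,8),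
  (5,22,9), (5,23,14),
  (5,23,15), (5,23,22),
  (5,24,2), (5,24,6),
  (5,24,11), (5,24,15),
  (5,24,17)]

/-- Images of the lines under the generators: index and scalar. -/
def images5 : Bool → List (ℕ × P5)
  | false => [
    (35, 17), (50, 11), (63, 8), (59, 20),
    (92, 24), (29, 14), (76, 18), (102, 21),
    (6, 16), (94, 13), (69, 8), (22, 15),
    (17, 2), (11, 17), (24, 4), (98, 19),
    (32, 9), (68, 9), (51, 21), (93, 15),
    (44, 2), (13, 6), (18, 23), (2, 5),
    (36, 6), (8, 23), (87, 3), (99, 12),
    (16, 7), (78, 16), (75, 1), (53, 15),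
    (103, 14), (85, 24), (89, 4), (81, 24),
    (30, 6), (4, 18), (67, 23), (41, 15),
    (21, 20), (48, 7), (60, 22), (14, 18),
    (23, 23), (104, 10), (0, 24), (42, 15),
    (5, 2), (9, 22), (100, 3), (40, 23),
    (43, 5), (101, 1), (19, 21), (71, 5),
    (26, 2), (83, 17), (61, 24), (77, 19),
    (27, 1), (31, 11), (12, 8), (74, 23),
    (49, 18), (38, 7), (57, 2), (55, 14),
    (56, 18), (28, 24), (72, 11), (80, 6),
    (33, 13), (97, 8), (90, 18), (52, 10),
    (86, 11), (64, 21), (91, 5), (7, 12),
    (82, 9), (95, 10), (65, 2), (54, 22),
    (66, 19), (1, 6), (73, 12), (62, 17),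
    (10, 16), (58, 23), (20, 10), (39, 20),
    (79, 9), (84, 4), (3, 21), (45, 23),
    (37, 18), (25, 18), (47, 10), (15, 2),
    (70, 2), (34, 9), (96, 6), (88, 13),
    (46, 3)]
  | true => [
    (47, 18), (92, 21), (102, 14), (95, 3),
    (28, 8), (24, 9), (52, 6), (86, 18),
    (90, 16), (10, 4), (9, 2), (16, 16),
    (12, 5), (15, 6), (14, 20), (13, 21),
    (11, 22), (104, 17), (50, 8), (26, 11),
    (20, 20), (96, 2), (54, 18), (41, 2),
    (5, 24), (59, 10), (19, 7), (74, 11),
    (4, 14), (34, 18), (78, 17), (49, 18),
    (89, 21), (33, 20), (29, 17), (72, 15),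
    (83, 9), (87, 23), (38, 20), (98, 13),
    (68, 10), (23, 4), (42, 20), (103, 18),
    (81, 15), (62, 6), (94, 7), (0, 17),
    (100, 19), (31, 17), (18, 14), (73, 12),
    (6, 21), (71, 19), (22, 17), (63, 16),
    (66, 9), (79, 5), (80, 17), (25, 15),
    (88, 9), (77, 8), (45, 21), (55, 22),
    (64, 20), (93, 1), (56, 24), (84, 13),
    (40, 15), (97, 9), (70, 20), (53, 23),
    (35, 10), (51, 13), (27, 7), (75, 20),
    (101, 15), (61, 14), (30, 18), (57, 5),
    (58, 18), (44, 10), (99, 1), (36, 24),
    (67, 12), (91, 6), (7, 17), (37, 19),
    (60, 24), (32, 6), (8, 22), (85, 21),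
    (1, 6), (65, 3), (46, 11), (3, 1),
    (21, 4), (69, 24), (39, 12), (82, 3),
    (48, 23), (76, 10), (2, 8), (43, 17),
    (17, 18)]

/-- A subgroup of order 27. -/
def sub5_27 : List (M5 × List Bool) := [
  (((1,2,17),(20,7,19),(2,20,22)), [false,false,true,false,false,false,false,true,false,true,false,true,false,false,false,false,false]),
  (((1,24,10),(19,20,7),(13,13,9)), [false,false,true,false,false,true,false,false,true,false,false,false,false,true,false,false,true,false,true]),
  (((4,16,12),(21,20,12),(10,8,6)), [false,true,false,true,false,false,false,false,true,false,true,false,false,false,false,true,false,false,true]),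
  (((4,20,3),(3,8,20),(18,16,23)), [false,true,false,false,true,false,false,false,false,true,false,false,true,false,true,false,true]),
  (((5,0,0),(0,5,0),(0,0,5)), []),
  (((6,13,12),(24,7,21),(22,19,17)), [false,true,false,true,false,false,false,false,false,true,false,true,false,false,false,false]),
  (((6,24,8),(5,4,11),(12,10,20)), [true,false,false,false,false,true,false,true,false,false,false,false,false,true,false,true,false]),
  (((7,10,21),(2,17,22),(12,12,6)), [false,true,false,false,true,false,false,true,false,false,true,false,true,false,false,true,false,false,false]),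
  (((7,14,18),(17,22,2),(14,17,1)), [true,false,true,false,false,false,false,true,false,false,true]),
  (((8,3,13),(10,18,13),(24,23,9)), [true,false,true,false,false,false,true,false,false,true,false,true,false,false,true,false]),
  (((8,18,11),(11,23,18),(17,3,4)), [false,false,false,true,false,true,false,false,false,false,true,false,false,false,false,false]),
  (((9,5,13),(21,1,10),(7,14,20)), [false,false,false,false,true,false,true,false,true]),
  (((9,21,23),(12,8,16),(13,24,18)), [false,true,false,true,false,false,false,false]),
  (((12,0,0),(0,12,0),(0,0,12)), [false,true,false,true,false,true,false,true,false,true]),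
  (((13,0,0),(0,13,0),(0,0,13)), [false,false,true,false,true,false,true,false,true,false,false,true,false,true,false,true,false,true]),
  (((15,10,4),(13,23,3),(5,21,17)), [false,false,true,false,true,false,true,false,true,false,false,true,false,false,false,false]),
  (((15,12,5),(10,22,24),(1,2,18)), [false,false,false,false,false,true,false,true,false,true,false,true,false,false,true,false,true]),
  (((17,7,19),(5,6,12),(21,21,7)), [false,false,true,false,true,false,false,true,false,true,false,false,false,true]),
  (((17,12,21),(23,15,21),(3,5,23)), [false,true,false,false,true,false,false,true,false,false,true,false,true,false,false,false,true,false,true]),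
  (((18,5,24),(8,9,24),(16,13,8)), [false,true,false,false,false,true,false,false,false,true,false,false,false,true,false,true,false]),
  (((18,22,2),(13,15,5),(24,24,22)), [false,false,true,false,false,false,true,false,false,false,false,false,false,true,false,true,false,true,false,true]),
  (((20,1,14),(12,9,13),(10,10,1)), [false,false,false,true,false,false,false,false,false,true,false,false,false,false,true,false,true,false,false]),
  (((20,13,10),(4,6,10),(11,12,4)), [false,true,false,false,true,false,false,false,false,true,false,false,false,false,false]),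
  (((22,19,20),(18,1,14),(19,18,7)), [false,true,false,false,false,false,false,false,true,false,false,false,false,true,false,true,false,false]),
  (((22,21,24),(14,18,1),(5,5,15)), [false,false,false,true,false,true,false,false,false,false,true,false,false,true,false,true,false,true]),
  (((23,11,5),(24,17,5),(21,4,15)), [false,false,true,false,true,false,true,false,false,false,true,false,false,true,false,false]),
  (((23,17,16),(16,4,17),(20,11,8)), [true,false,false,false,false,false,true,false,false,false,false,true,false,true,false,true,false])]

/-- A subgroup of order 5. -/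
def sub5_5 : List (M5 × List Bool) := [
  (((0,0,18),(19,15,0),(9,19,0)), [false,false,false,true,false,false,false,false,false,true,false,false,false,true,false,true]),
  (((0,16,6),(0,15,16),(17,0,0)), [false,true,false,false,true,false,true,false,false,false,false,false,true,false,false,false]),
  (((5,0,0),(0,5,0),(0,0,5)), []),
  (((10,16,0),(22,20,16),(9,22,10)), [false,false,false,false,true,false,true,false,true,false,false,false,true,false,false,false,true,false,false,true]),
  (((10,23,6),(19,20,23),(0,19,10)), [false,true,false,false,false,true,false,false,false,false,true,false,true,false,true,false])]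

/-- A subgroup of order 7. -/
def sub5_7 : List (M5 × List Bool) := [
  (((0,1,8),(15,13,5),(3,16,3)), [false,false,false,false,false,false]),
  (((0,15,2),(4,12,19),(7,5,2)), [false]),
  (((5,0,0),(0,5,0),(0,0,5)), []),
  (((16,2,19),(7,1,0),(13,20,24)), [false,false,false,false,false]),
  (((19,8,12),(3,4,20),(16,0,21)), [false,false]),
  (((20,2,8),(8,2,20),(19,19,19)), [false,false,false]),
  (((20,7,16),(3,3,16),(7,20,16)), [false,false,false,false])]

/-- A subgroup of order 8. -/
def sub5_8 : List (M5 × List Bool) := [
  (((5,0,0),(0,5,0),(0,0,5)), []),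
  (((5,21,20),(24,5,18),(20,17,10)), [false,false,false,true,false,true,false,false,true,false,true,false,false,false,false,true,false,false,true]),
  (((5,24,12),(21,5,5),(13,5,10)), [false,true,false,false,false,true,false,false,true,false,true,false,false,true,false,false,false,true,false,false]),
  (((10,10,23),(10,10,7),(22,8,0)), [false,true,false,true,false,false,false,false,true,false,false,false,false,true,false,false,false,true]),
  (((15,15,7),(15,0,14),(8,11,5)), [false,false,false,false,false,false,true,false,false,true,false,false,false,false,false,true,false]),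
  (((20,0,0),(0,10,14),(0,11,15)), [false,true,false,true,false,true,false,false,false,false,true,false,true,false,false,false,false,true]),
  (((20,6,18),(6,24,8),(5,1,16)), [false,false,false,true,false,true,false,false,true,false,true,false,false,true,false,false,true,false,false,true]),
  (((20,9,5),(9,21,4),(17,7,19)), [false,false,true,false,true,false,true,false,false,false,true,false,false,true,false,false,false,true,false])]

/-- A diagonal element moving the lines. -/
def move5 : M5 := ((5,0,0),(0,12,0),(0,0,13))

/-- A line it moves out. -/
def moved5 : V5 := (0,5,5)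

end Cfsg.Agent.Lib.MinIndexPSU3
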