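import Mathlib
import Cfsg.Agent.Lib.MinIndexPSU3.FiveData

/-!
Lib/MinIndexPSU3/FiveModel: arithmetic on pairs, triples and matrices of pairs, and the checks on the
certificate data, all decided.
-/

set_option autoImplicit false
set_option synthInstance.maxSize 2000
set_option synthInstance.maxHeartbeats 400000
set_option maxRecDepth 20000

namespace Cfsg.Agent.Lib.MinIndexPSU3

/-- Code of a pair. -/
def encP (a b : ℕ) : ℕ := 5 * (a % 5) + b % 5

/-- Sum of pairs. -/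
def addP (x y : ℕ) : ℕ := encP (x / 5 + y / 5) (x % 5 + y % 5)

/-- Product of pairs. -/
def mulP (x y : ℕ) : ℕ :=
  encP (x / 5 * (y / 5) + 2 * (x % 5) * (y % 5)) (x / 5 * (y % 5) + x % 5 * (y / 5))

/-- Conjugate of a pair. -/
def conjP (x : ℕ) : ℕ := encP (x / 5) (5 - x % 5)

/-- Negative of a pair. -/
def negP (x : ℕ) : ℕ := encP (5 - x / 5 % 5) (5 - x % 5)

/-- Bilinear dot product. -/
def dotP (u v : V5) : P5 :=
  addP (addP (mulP u.1 v.1) (mulP u.2.1 v.2.1)) (mulP u.2.2 v.2.2)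

/-- Hermitian product. -/
def hermP (u v : V5) : P5 := dotP u (conjP v.1, conjP v.2.1, conjP v.2.2)

/-- Matrix times vector. -/
def mvP (X : M5) (v : V5) : V5 := (dotP X.1 v, dotP X.2.1 v, dotP X.2.2 v)

/-- Columns. -/
def trP (X : M5) : M5 :=
  ((X.1.1, X.2.1.1, X.2.2.1), (X.1.2.1, X.2.1.2.1, X.2.2.2.1), (X.1.2.2, X.2.1.2.2, X.2.2.2.2))

/-- Matrix product. -/
def mmP (X Y : M5) : M5 := (mvP (trP Y) X.1, mvP (trP Y) X.2.1, mvP (trP Y) X.2.2)

/-- Unit pair. -/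
def oneP : P5 := 5

/-- Identity matrix. -/
def idP : M5 := ((oneP, 0, 0), (0, oneP, 0), (0, 0, oneP))

/-- Determinant. -/
def detP (X : M5) : P5 :=
  addP (addP (addP (addP (addP (mulP (mulP X.1.1 X.2.1.2.1) X.2.2.2.2)
    (negP (mulP (mulP X.1.1 X.2.1.2.2) X.2.2.2.1)))
    (negP (mulP (mulP X.1.2.1 X.2.1.1) X.2.2.2.2)))
    (mulP (mulP X.1.2.1 X.2.1.2.2) X.2.2.1))
    (mulP (mulP X.1.2.2 X.2.1.1) X.2.2.2.1))
    (negP (mulP (mulP X.1.2.2 X.2.1.2.1) X.2.2.1))

/-- Scaling. -/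
def scP (c : P5) (v : V5) : V5 := (mulP c v.1, mulP c v.2.1, mulP c v.2.2)

/-- The matrix is in the special unitary group. -/
def IsSU5 (X : M5) : Prop :=
  detP X = oneP ∧ hermP (trP X).1 (trP X).1 = oneP ∧ hermP (trP X).1 (trP X).2.1 = 0 ∧
    hermP (trP X).1 (trP X).2.2 = 0 ∧ hermP (trP X).2.1 (trP X).1 = 0 ∧
    hermP (trP X).2.1 (trP X).2.1 = oneP ∧ hermP (trP X).2.1 (trP X).2.2 = 0 ∧
    hermP (trP X).2.2 (trP X).1 = 0 ∧ hermP (trP X).2.2 (trP X).2.1 = 0 ∧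
    hermP (trP X).2.2 (trP X).2.2 = oneP

instance (X : M5) : Decidable (IsSU5 X) := by unfold IsSU5; infer_instance

/-- Value of a word. -/
def evalW : List Bool → M5
  | [] => idP
  | b :: w => mmP (gen5 b) (evalW w)

/-- All entries are codes. -/
def InRange (X : M5) : Prop :=
  X.1.1 < 25 ∧ X.1.2.1 < 25 ∧ X.1.2.2 < 25 ∧ X.2.1.1 < 25 ∧ X.2.1.2.1 < 25 ∧ X.2.1.2.2 < 25 ∧
    X.2.2.1 < 25 ∧ X.2.2.2.1 < 25 ∧ X.2.2.2.2 < 25

instance (X : M5) : Decidable (InRange X) := by unfold InRange; infer_instance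

/-- A closed list of matrices with correct words. -/
def GoodList (L : List (M5 × List Bool)) (n : ℕ) : Prop :=
  L.length = n ∧ (L.map Prod.fst).Nodup ∧ (∀ p ∈ L, evalW p.2 = p.1) ∧
    idP ∈ L.map Prod.fst ∧ (∀ p ∈ L, InRange p.1) ∧ ∀ p ∈ L, ∀ p' ∈ L, mmP p.1 p'.1 ∈ L.map Prod.fst

instance (L : List (M5 × List Bool)) (n : ℕ) : Decidable (GoodList L n) := by
  unfold GoodList; infer_instance

/-- A generator permutes the lines as listed. -/
def Permutes (b : Bool) : Prop :=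
  (images5 b).length = lines5.length ∧ ∀ p ∈ lines5.zip (images5 b),
    p.2.1 < lines5.length ∧ p.2.2 ≠ 0 ∧ mvP (gen5 b) p.1 = scP p.2.2 (lines5.getD p.2.1 (0, 0, 0))

instance (b : Bool) : Decidable (Permutes b) := by unfold Permutes; infer_instance

theorem gen5_isSU : ∀ b, IsSU5 (gen5 b) := by decide +kernel

theorem gen5_permutes : ∀ b, Permutes b := by decide +kernel

theorem good_7 : GoodList sub5_7 7 := by decide +kernel

theorem good_5 : GoodList sub5_5 5 := by decide +kernel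

theorem good_8 : GoodList sub5_8 8 := by decide +kernel

theorem good_27 : GoodList sub5_27 27 := by decide +kernel

theorem move5_isSU : IsSU5 move5 := by decide +kernel

theorem move5_range : ∀ u ∈ lines5, u.1 < 25 ∧ u.2.1 < 25 ∧ u.2.2 < 25 := by decide +kernel

theorem moved5_mem : moved5 ∈ lines5 := by decide +kernel

/-- Cross products with the moved line do not vanish. -/
theorem moved5_out : ∀ u ∈ lines5,
    let x := mvP move5 moved5
    mulP x.1 u.2.1 ≠ mulP x.2.1 u.1 ∨ mulP x.1 u.2.2 ≠ mulP x.2.2 u.1 ∨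
      mulP x.2.1 u.2.2 ≠ mulP x.2.2 u.2.1 := by decide +kernel

end Cfsg.Agent.Lib.MinIndexPSU3
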