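import Mathlib
import Cfsg.Agent.Lib.Unitary.Basic

/-!
Lib/MinIndexPSU3/Arith: the possible point stabilisers of a subgroup of `SU 3 F q` of index at most
`q ^ 3`, described by their parameters: `A` (rest part), `B` (transvection part), `D` (torus part).
-/

set_option autoImplicit false
set_option linter.unusedSectionVars false
set_option linter.style.haveILetI false

namespace Cfsg.Agent.Lib.MinIndexPSU3

open Cfsg.Agent.Lib.Unitary

variable {F : Type*} [Field F] [Fintype F] {q : ℕ}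

/-- Parameters of a point stabiliser. -/
structure Params (F : Type*) [Field F] (q : ℕ) where
  /-- rest part -/
  A : AddSubgroup F
  /-- transvection part -/
  B : AddSubgroup F
  /-- torus part -/
  D : Subgroup Fˣ
  pair : ∀ a ∈ A, ∀ b ∈ A, a * b ^ q - b * a ^ q ∈ B
  sqB : (2 : F) = 0 → ∀ a ∈ A, a ^ (q + 1) ∈ B
  actA : ∀ ζ ∈ D, ∀ a ∈ A, ((ζ ^ (2 * q - 1) : Fˣ) : F) * a ∈ A
  actB : ∀ ζ ∈ D, ∀ b ∈ B, ((ζ ^ (q + 1) : Fˣ) : F) * b ∈ B

/-- A group of units stabilising a finite additive subgroup acts freely on its nonzero elements. -/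
theorem card_dvd_sub_one (A : AddSubgroup F) (H : Subgroup Fˣ)
    (h : ∀ u ∈ H, ∀ a ∈ A, (u : F) * a ∈ A) : Nat.card H ∣ Nat.card A - 1 := by
  classical
  set U : Set Fˣ := {u | (u : F) ∈ A}
  have hU : QuotientGroup.mk ⁻¹' (((QuotientGroup.mk : Fˣ → Fˣ ⧸ H)) '' U) = U := by
    ext u
    constructor
    · rintro ⟨v, hv, huv⟩
      have := h _ (QuotientGroup.eq.1 huv) _ hv
      have e : ((v⁻¹ * u : Fˣ) : F) * (v : F) = (u : F) := by
        rw [← Units.val_mul, mul_comm (v⁻¹ * u) v, mul_inv_cancel_left]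
      rw [e] at this
      exact this
    · exact fun hu => ⟨u, hu, rfl⟩
  have h1 : Nat.card U = Nat.card H * Nat.card ((QuotientGroup.mk : Fˣ → Fˣ ⧸ H) '' U) := by
    rw [← Nat.card_prod]
    refine Nat.card_congr ((Equiv.setCongr hU.symm).trans ?_)
    exact QuotientGroup.preimageMkEquivSubgroupProdSet H _
  refine ⟨_, Eq.trans ?_ h1⟩
  have h2 : Nat.card U = ((A : Set F) \ {0}).ncard := by
    rw [← Nat.card_coe_set_eq]
    exact Nat.card_congr
      { toFun := fun u => ⟨u.1, u.2, u.1.ne_zero⟩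
        invFun := fun a => ⟨Units.mk0 a.1 a.2.2, a.2.1⟩
        left_inv := fun u => Subtype.ext (Units.ext rfl)
        right_inv := fun a => rfl }
  rw [h2, Set.ncard_sdiff_singleton_of_mem (show (0 : F) ∈ (A : Set F) from A.zero_mem),
    ← Nat.card_coe_set_eq]
  rfl

theorem card_dvd_of_pow_eq_one {D : Subgroup Fˣ} {m : ℕ} (h : ∀ ζ ∈ D, ζ ^ m = 1) :
    Nat.card D ∣ m := by
  rw [← IsCyclic.exponent_eq_card]
  exact Monoid.exponent_dvd_of_forall_pow_eq_one fun x => Subtype.ext (h x x.2)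

theorem card_units_eq (hF : Fintype.card F = q ^ 2) : Nat.card Fˣ = q ^ 2 - 1 := by
  rw [Nat.card_units, Nat.card_eq_fintype_card, hF]

theorem card_dvd_units (hF : Fintype.card F = q ^ 2) (D : Subgroup Fˣ) :
    Nat.card D ∣ q ^ 2 - 1 := by
  rw [← card_units_eq hF]
  exact D.card_subgroup_dvd_card

theorem card_addSubgroup_dvd (hF : Fintype.card F = q ^ 2) (A : AddSubgroup F) :
    Nat.card A ∣ q ^ 2 := by
  rw [← hF, ← Nat.card_eq_fintype_card]
  exact A.card_addSubgroup_dvd_card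

namespace Params

variable (Q : Params F q)

/-- The order of the unipotent part. -/
noncomputable def P : ℕ := Nat.card Q.A * Nat.card Q.B

/-- The order of the torus part. -/
noncomputable def d : ℕ := Nat.card Q.D

theorem card_le_kernel (hF : Fintype.card F = q ^ 2) {a : F} (ha : a ∈ Q.A) :
    Nat.card Q.A ≤ {c : F | c ∈ Q.A ∧ a * c ^ q = c * a ^ q}.ncard * Nat.card Q.B := by
  classical
  let φ : Q.A →+ Q.B := AddMonoidHom.mk'
    (fun b => ⟨a * (b : F) ^ q - (b : F) * a ^ q, Q.pair a ha b b.2⟩)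
    (fun b c => Subtype.ext (by simp [add_pow_q hF]; ring))
  have h1 := AddSubgroup.card_eq_card_quotient_mul_card_addSubgroup φ.ker
  rw [Nat.card_congr (QuotientAddGroup.quotientKerEquivRange φ).toEquiv] at h1
  rw [h1, mul_comm]
  refine Nat.mul_le_mul (le_of_eq ?_) (Nat.card_le_card_of_injective Subtype.val
    Subtype.val_injective)
  rw [← Nat.card_coe_set_eq]
  exact Nat.card_congr
    { toFun := fun b => ⟨b.1.1, b.1.2, sub_eq_zero.1 (congrArg Subtype.val b.2)⟩
      invFun := fun c => ⟨⟨c.1, c.2.1⟩, Subtype.ext (sub_eq_zero.2 c.2.2)⟩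
      left_inv := fun b => rfl
      right_inv := fun c => rfl }

theorem kernel_div {a c : F} (ha : a ≠ 0) (h : a * c ^ q = c * a ^ q) : (c / a) ^ q = c / a := by
  rw [div_pow, div_eq_div_iff (pow_ne_zero _ ha) ha]
  linear_combination h

theorem card_kernel_le (hF : Fintype.card F = q ^ 2) {a : F} (ha : a ≠ 0) :
    {c : F | c ∈ Q.A ∧ a * c ^ q = c * a ^ q}.ncard ≤ q := by
  rw [← Nat.card_coe_set_eq]
  refine le_trans (Nat.card_le_card_of_injective
    (β := {x : F // x ^ q = x}) (fun c => ⟨c.1 / a, kernel_div ha c.2.2⟩) fun c c' h => ?_)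
    (card_fixed hF).le
  exact Subtype.ext (by simpa [div_left_inj' ha] using congrArg Subtype.val h)

theorem dvd_pow_of_fix {m : ℕ} {b : F} (hb : b ≠ 0)
    (h : ∀ ζ ∈ Q.D, ((ζ ^ m : Fˣ) : F) * b = b) : Q.d ∣ m :=
  card_dvd_of_pow_eq_one fun ζ hζ => Units.ext (mul_right_cancel₀ hb (by
    rw [h ζ hζ, Units.val_one, one_mul]))

/-- No transvections, odd `q`. -/
theorem caseNone_odd (hF : Fintype.card F = q ^ 2) (hq : Odd q) (hB : Nat.card Q.B = 1)
    (hbig : q ^ 2 - 1 ≤ Q.P * Q.d) :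
    (Q.P = 1 ∧ Q.d = q ^ 2 - 1) ∨
      (Q.P = q ∧ 3 ∣ q + 1 ∧ (Q.d = 3 * (q - 1) ∨ 2 * Q.d = 3 * (q - 1))) := by
  classical
  have hd : Q.d ∣ q ^ 2 - 1 := card_dvd_units hF Q.D
  have h1q := one_lt_q hF
  have hsq : q ^ 2 - 1 = (q + 1) * (q - 1) := by rw [← Nat.sq_sub_sq, one_pow]
  have hP : Q.P = Nat.card Q.A := by rw [P, hB, mul_one]
  rw [hP] at hbig ⊢
  by_cases hA : ∀ a ∈ Q.A, a = 0
  · left
    have hA1 : Nat.card Q.A = 1 := by
      rw [AddSubgroup.card_eq_one]
      exact (AddSubgroup.eq_bot_iff_forall _).2 hA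
    rw [hA1, one_mul] at hbig
    exact ⟨hA1, le_antisymm (Nat.le_of_dvd (by
      have := Nat.mul_le_mul h1q.le h1q.le; rw [← sq] at this; nlinarith [Nat.sub_add_cancel (show 1 ≤ q ^ 2 by nlinarith)]) hd) hbig⟩
  push Not at hA
  obtain ⟨a, ha, ha0⟩ := hA
  right
  have hB0 : ∀ b ∈ Q.B, b = 0 := (AddSubgroup.eq_bot_iff_forall _).1 (AddSubgroup.card_eq_one.1 hB)
  have hker : ∀ c ∈ Q.A, (c / a) ^ q = c / a := fun c hc =>
    kernel_div ha0 (sub_eq_zero.1 (hB0 _ (Q.pair a ha c hc)))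
  -- the order of `A` divides `q`
  let S : AddSubgroup F :=
    { carrier := {x | x ^ q = x}
      add_mem' := fun {x y} hx hy => show (x + y) ^ q = x + y by
        rw [add_pow_q hF, show x ^ q = x from hx, show y ^ q = y from hy]
      zero_mem' := zero_pow_q hF
      neg_mem' := fun {x} hx => show (-x) ^ q = -x by
        rw [neg_pow_q hF, show x ^ q = x from hx] }
  have hS : Nat.card S = q := card_fixed hF
  let φ : Q.A →+ S := AddMonoidHom.mk' (fun c => ⟨(c : F) / a, hker c c.2⟩)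
    (fun b c => Subtype.ext (by simp [add_div]))
  have hAq : Nat.card Q.A ∣ q :=
    (AddSubgroup.card_dvd_of_injective φ fun b c h => Subtype.ext (by
      simpa [φ, div_left_inj' ha0] using congrArg Subtype.val h)).trans (dvd_of_eq hS)
  -- the torus
  have hd3 : Q.d ∣ 3 * (q - 1) := by
    refine card_dvd_of_pow_eq_one fun ζ hζ => ?_
    have h1 := hker _ (Q.actA ζ hζ a ha)
    rw [mul_div_assoc, div_self ha0, mul_one, ← Units.val_pow_eq_pow_val, Units.val_inj,
      ← pow_mul] at h1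
    have h2 : ζ ^ ((2 * q - 1) * (q - 1)) = 1 := by
      apply mul_right_cancel (b := ζ ^ (2 * q - 1))
      rw [← pow_add, one_mul, ← Nat.mul_succ, Nat.succ_eq_add_one, Nat.sub_add_cancel h1q.le]
      exact h1
    have h3 : ζ ^ (2 * (q ^ 2 - 1)) = 1 := by
      rw [mul_comm, pow_mul, ← card_units_eq hF, pow_card_eq_one', one_pow]
    have h4 : (2 * q - 1) * (q - 1) + 3 * (q - 1) = 2 * (q ^ 2 - 1) := by
      rw [hsq, ← add_mul, show 2 * q - 1 + 3 = 2 * (q + 1) by omega, mul_assoc]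
    rw [← h4, pow_add, h2, one_mul] at h3
    exact h3
  have hpos : 0 < q - 1 := by omega
  have hApos : 0 < Nat.card Q.A := Nat.card_pos
  obtain ⟨m, hm⟩ := hAq
  have hm1 : m = 1 := by
    by_contra hm1
    have hm3 : 3 ≤ m := by
      rcases hq with ⟨k, hk⟩
      rcases Nat.lt_or_ge m 3 with h | h
      · interval_cases m <;> omega
      · exact h
    have h1 : Nat.card Q.A * 3 ≤ q := by
      have := Nat.mul_le_mul_left (Nat.card Q.A) hm3
      omega
    have h2 : Q.d ≤ 3 * (q - 1) := Nat.le_of_dvd (by omega) hd3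
    have h3 : Nat.card Q.A * Q.d ≤ Nat.card Q.A * (3 * (q - 1)) := Nat.mul_le_mul_left _ h2
    rw [hsq] at hbig
    nlinarith
  rw [hm1, mul_one] at hm
  rw [← hm] at hbig ⊢
  have h3 : 3 ∣ q + 1 := by
    by_contra h3
    have hcop : Nat.Coprime (q + 1) 3 :=
      ((Nat.prime_three.coprime_iff_not_dvd).2 h3).symm
    have h1 : Q.d ∣ Nat.gcd ((q + 1) * (q - 1)) (3 * (q - 1)) :=
      Nat.dvd_gcd (hsq ▸ hd) hd3
    rw [Nat.gcd_mul_right, hcop.gcd_eq_one, one_mul] at h1
    have := Nat.mul_le_mul_left q (Nat.le_of_dvd hpos h1)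
    rw [hsq] at hbig
    nlinarith
  refine ⟨rfl, h3, ?_⟩
  obtain ⟨k, hk⟩ := hd3
  rw [hsq] at hbig
  rcases Nat.lt_or_ge k 3 with hk3 | hk3
  · interval_cases k
    · omega
    · left; omega
    · right; omega
  · have := Nat.mul_le_mul_left Q.d hk3
    nlinarith

/-- No transvections, even `q`. -/
theorem caseNone_even (hF : Fintype.card F = q ^ 2) (h2 : (2 : F) = 0) (hB : Nat.card Q.B = 1)
    (hbig : q ^ 2 - 1 ≤ Q.P * Q.d) : Q.P = 1 ∧ Q.d = q ^ 2 - 1 := by
  have hB0 : ∀ b ∈ Q.B, b = 0 := (AddSubgroup.eq_bot_iff_forall _).1 (AddSubgroup.card_eq_one.1 hB)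
  have hP : Q.P = 1 := by
    rw [P, hB, mul_one, AddSubgroup.card_eq_one]
    refine (AddSubgroup.eq_bot_iff_forall _).2 fun a ha => ?_
    exact pow_eq_zero_iff (Nat.succ_ne_zero q) |>.1 (hB0 _ (Q.sqB h2 a ha))
  rw [hP, one_mul] at hbig
  have h1q := one_lt_q hF
  refine ⟨hP, le_antisymm (Nat.le_of_dvd ?_ (card_dvd_units hF Q.D)) hbig⟩
  have : 1 < q ^ 2 := Nat.one_lt_pow (by norm_num) h1q
  omega

theorem card_A_le_four (hF : Fintype.card F = q ^ 2) (h2 : (2 : F) = 0) {b₀ : F}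
    (hN : ∀ a ∈ Q.A, a ≠ 0 → a ^ (q + 1) = b₀) : Nat.card Q.A ≤ 4 := by
  classical
  by_contra hlt
  push Not at hlt
  obtain ⟨a, ha, ha0⟩ : ∃ a ∈ Q.A, a ≠ 0 := by
    by_contra hA
    push Not at hA
    have : Nat.card Q.A = 1 :=
      AddSubgroup.card_eq_one.2 ((AddSubgroup.eq_bot_iff_forall _).2 hA)
    omega
  have key : ∀ b ∈ Q.A, b ≠ 0 → b ≠ a → (b / a) ^ 2 + b / a + 1 = 0 := by
    intro b hb hb0 hba
    have hab : a + b ≠ 0 := fun h => hba (by linear_combination h - a * h2)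
    have e1 := hN a ha ha0
    have e2 := hN b hb hb0
    have e3 := hN _ (Q.A.add_mem ha hb) hab
    rw [pow_succ, add_pow_q hF] at e3
    rw [pow_succ] at e1 e2
    have hN0 : a ^ q * a ≠ 0 := mul_ne_zero (pow_ne_zero q ha0) ha0
    have h1 : (b / a) ^ q + b / a = 1 := by
      rw [div_pow]
      field_simp
      linear_combination e3 - e2 - 2 * e1 - b₀ * h2
    have h3 : (b / a) ^ q * (b / a) = 1 := by
      rw [div_pow]
      field_simp
      linear_combination e2 - e1
    linear_combination (b / a) * h1 - h3 + (b / a) * h2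
  obtain ⟨b, hb, hb', -⟩ : ∃ b ∈ Q.A, b ∉ ({0, a} : Finset F) ∧ True := by
    by_contra hA
    push Not at hA
    have hsub : (Q.A : Set F) ⊆ (({0, a} : Finset F) : Set F) := fun x hx => by
      by_contra h; exact (hA x hx h)
    have h4 := Set.ncard_le_ncard hsub (Finset.finite_toSet _)
    rw [← Nat.card_coe_set_eq, Set.ncard_coe_finset] at h4
    have := Finset.card_le_two (a := (0 : F)) (b := a)
    have h5 : Nat.card Q.A ≤ 2 := h4.trans this
    omega
  simp only [Finset.mem_insert, Finset.mem_singleton, not_or] at hb'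
  have hsub : (Q.A : Set F) ⊆ (({0, a, b, a + b} : Finset F) : Set F) := by
    intro c hc
    simp only [Finset.coe_insert, Finset.coe_singleton, Set.mem_insert_iff, Set.mem_singleton_iff]
    by_cases hc0 : c = 0
    · exact Or.inl hc0
    by_cases hca : c = a
    · exact Or.inr (Or.inl hca)
    have h1 := key b hb hb'.1 hb'.2
    have h3 := key c hc hc0 hca
    have h4 : (c / a - b / a) * (c / a + b / a + 1) = 0 := by linear_combination h3 - h1
    rcases mul_eq_zero.1 h4 with h5 | h5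
    · exact Or.inr (Or.inr (Or.inl ((div_left_inj' ha0).1 (sub_eq_zero.1 h5))))
    · refine Or.inr (Or.inr (Or.inr ?_))
      field_simp at h5
      linear_combination h5 - (a + b) * h2
  have h4 := Set.ncard_le_ncard hsub (Finset.finite_toSet _)
  rw [← Nat.card_coe_set_eq, Set.ncard_coe_finset] at h4
  have : Nat.card Q.A ≤ 4 := h4.trans Finset.card_le_four
  omega

/-- Transvection part of order two. -/
theorem caseTwo (hF : Fintype.card F = q ^ 2) (hq3 : 3 ≤ q) (hev : Even q) (h2 : (2 : F) = 0)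
    (hB : Nat.card Q.B = 2) (hbig : q ^ 2 - 1 ≤ Q.P * Q.d) :
    q = 8 ∧ Q.P = 8 ∧ Q.d = 9 := by
  classical
  obtain ⟨x, y, hxy, huniv⟩ := Nat.card_eq_two_iff.1 hB
  obtain ⟨b, hb, hb0⟩ : ∃ b ∈ Q.B, b ≠ 0 := by
    by_contra h
    push Not at h
    exact hxy (Subtype.ext ((h x x.2).trans (h y y.2).symm))
  have hall : ∀ c ∈ Q.B, c ≠ 0 → c = b := by
    intro c hc hc0
    have hz : ∀ z : Q.B, z = x ∨ z = y := fun z => by
      have : z ∈ ({x, y} : Set Q.B) := by rw [huniv]; trivial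
      simpa using this
    have e : (⟨c, hc⟩ : Q.B) = ⟨b, hb⟩ := by
      have h1 := hz ⟨c, hc⟩
      have h2 := hz ⟨b, hb⟩
      have h3 := hz 0
      have n1 : (⟨c, hc⟩ : Q.B) ≠ 0 := fun h => hc0 (congrArg Subtype.val h)
      have n2 : (⟨b, hb⟩ : Q.B) ≠ 0 := fun h => hb0 (congrArg Subtype.val h)
      rcases h1 with h1 | h1 <;> rcases h2 with h2 | h2 <;> rcases h3 with h3 | h3 <;>
        first
          | exact h1.trans h2.symm
          | exact absurd (h1.trans h3.symm) n1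
          | exact absurd (h2.trans h3.symm) n2
    exact congrArg Subtype.val e
  have hA4 := Q.card_A_le_four hF h2 (b₀ := b) fun a ha ha0 =>
    hall _ (Q.sqB h2 a ha) (pow_ne_zero _ ha0)
  have hdq : Q.d ∣ q + 1 := Q.dvd_pow_of_fix hb0 fun ζ hζ =>
    hall _ (Q.actB ζ hζ b hb) (mul_ne_zero (Units.ne_zero _) hb0)
  have hP8 : Q.P ≤ 8 := by rw [P, hB]; omega
  have hdle : Q.d ≤ q + 1 := Nat.le_of_dvd (by omega) hdq
  have hsq : q ^ 2 - 1 = (q + 1) * (q - 1) := by rw [← Nat.sq_sub_sq, one_pow]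
  have hq9 : q ≤ 9 := by
    have h1 := Nat.mul_le_mul hP8 hdle
    rw [hsq] at hbig
    have h3 : q - 1 ≤ 8 := Nat.le_of_mul_le_mul_left
      ((hbig.trans h1).trans (le_of_eq (mul_comm _ _))) (by omega : 0 < q + 1)
    omega
  obtain ⟨r, n, hrprime, -, -, hn⟩ := q_eq_primePow hF
  have hAd : Nat.card Q.A ∣ q ^ 2 := card_addSubgroup_dvd hF Q.A
  interval_cases q
  · exact absurd hev (by decide)
  · -- `q = 4`
    exfalso
    have hd5 : Q.d = 5 := by
      rcases (Nat.dvd_prime Nat.prime_five).1 hdq with h | h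
      · rw [h] at hbig; omega
      · exact h
    have hPA : Q.P = Nat.card Q.A * 2 := by rw [P, hB]
    have hA2 : 2 ≤ Nat.card Q.A := by rw [hd5] at hbig; omega
    let ψ : Fˣ →* Fˣ := powMonoidHom (2 * 4 - 1)
    have hdvd := card_dvd_sub_one Q.A (Q.D.map ψ) (by
      rintro _ ⟨ζ, hζ, rfl⟩ a ha
      exact Q.actA ζ hζ a ha)
    have hinj : Function.Injective (ψ.comp Q.D.subtype) := by
      rw [injective_iff_map_eq_one]
      intro ζ hζ
      have h5 : ζ ^ 5 = 1 := by
        have := pow_card_eq_one' (x := ζ)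
        rwa [show Nat.card Q.D = 5 from hd5] at this
      have h7 : ζ ^ 7 = 1 := Subtype.ext (by simpa [ψ] using hζ)
      calc ζ = ζ ^ 15 / (ζ ^ 7) ^ 2 := by rw [← pow_mul]; simp [div_eq_mul_inv, pow_succ]
        _ = 1 := by rw [show 15 = 5 * 3 from rfl, pow_mul, h5, h7]; simp
    have hcard : Nat.card (Q.D.map ψ) = 5 := by
      rw [← hd5, d, show Q.D.map ψ = (ψ.comp Q.D.subtype).range by
        rw [MonoidHom.range_comp, Subgroup.range_subtype]]
      exact Nat.card_congr (MonoidHom.ofInjective hinj).toEquiv.symm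
    rw [hcard] at hdvd
    have := Nat.le_of_dvd (by omega) hdvd
    omega
  all_goals first
    | exact absurd hev (by decide)
    | skip
  · -- `q = 6`
    exfalso
    rcases n with _ | n
    · simp at hn
    have h2' : 2 ∣ r ^ (n + 1) := hn ▸ (by norm_num)
    have h3' : 3 ∣ r ^ (n + 1) := hn ▸ (by norm_num)
    have e2 := (Nat.prime_dvd_prime_iff_eq Nat.prime_two hrprime).1 (Nat.prime_two.dvd_of_dvd_pow h2')
    have e3 := (Nat.prime_dvd_prime_iff_eq Nat.prime_three hrprime).1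
      (Nat.prime_three.dvd_of_dvd_pow h3')
    omega
  · -- `q = 8`
    have hd9 : Q.d = 9 := by
      by_contra h
      have h3 : Q.d ≤ 3 := by
        have := Nat.le_of_dvd (by norm_num) hdq
        interval_cases Q.d <;> omega
      have := Nat.mul_le_mul hP8 h3
      omega
    refine ⟨rfl, ?_, hd9⟩
    have hPA : Q.P = Nat.card Q.A * 2 := by rw [P, hB]
    rw [hd9] at hbig
    omega

/-- Transvection part of order three over `F_81`. -/
theorem caseThree (hF : Fintype.card F = 9 ^ 2) (Q : Params F 9)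
    (hB : Nat.card Q.B = 3) (hbig : 9 ^ 2 - 1 ≤ Q.P * Q.d) : Q.P = 27 ∧ Q.d = 4 := by
  classical
  obtain ⟨b, hb, hb0⟩ : ∃ b ∈ Q.B, b ≠ 0 := by
    by_contra h
    push Not at h
    rw [AddSubgroup.card_eq_one.2 ((AddSubgroup.eq_bot_iff_forall _).2 h)] at hB
    omega
  have h20 : Q.d ∣ 20 := by
    refine card_dvd_of_pow_eq_one fun ζ hζ => ?_
    let H : Subgroup Fˣ := Subgroup.zpowers (ζ ^ (9 + 1))
    have hdvd : Nat.card H ∣ Nat.card Q.B - 1 := by
      refine card_dvd_sub_one Q.B H fun u hu c hc => ?_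
      have hu' : u ∈ Submonoid.powers (ζ ^ (9 + 1)) := by
        rwa [mem_powers_iff_mem_zpowers]
      obtain ⟨k, rfl⟩ := hu'
      show ((((ζ ^ (9 + 1)) ^ k : Fˣ)) : F) * c ∈ Q.B
      rw [pow_right_comm]
      exact Q.actB _ (pow_mem hζ k) c hc
    rw [hB] at hdvd
    have h : (⟨_, Subgroup.mem_zpowers (ζ ^ (9 + 1))⟩ : H) ^ (3 - 1) = 1 :=
      orderOf_dvd_iff_pow_eq_one.1 ((orderOf_dvd_natCard _).trans hdvd)
    have h' := congrArg Subtype.val h
    simpa [← pow_mul] using h'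
  have hA : Nat.card Q.A ∣ 3 ^ 4 := (card_addSubgroup_dvd hF Q.A).trans (by norm_num)
  obtain ⟨j, hj, hj'⟩ := (Nat.dvd_prime_pow Nat.prime_three).1 hA
  have hP : Q.P = Nat.card Q.A * 3 := by rw [P, hB]
  have hA27 : Nat.card Q.A ≤ 27 := by
    by_cases h : ∀ a ∈ Q.A, a = 0
    · rw [AddSubgroup.card_eq_one.2 ((AddSubgroup.eq_bot_iff_forall _).2 h)]; norm_num
    push Not at h
    obtain ⟨a, ha, ha0⟩ := h
    refine (Q.card_le_kernel hF ha).trans ?_
    rw [hB]
    exact Nat.mul_le_mul_right 3 (Q.card_kernel_le hF ha0)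
  -- no element of order five
  have h5 : ¬ 5 ∣ Q.d := by
    intro h5
    haveI : Fact (Nat.Prime 5) := ⟨Nat.prime_five⟩
    obtain ⟨ζ, hζ⟩ := exists_prime_orderOf_dvd_card' (G := Q.D) 5 h5
    have hord : orderOf ((ζ : Fˣ) ^ (2 * 9 - 1)) = 5 := by
      rw [orderOf_pow, Subgroup.orderOf_coe, hζ]; norm_num
    have hdvd := card_dvd_sub_one Q.A (Subgroup.zpowers ((ζ : Fˣ) ^ (2 * 9 - 1))) (by
      intro u hu a ha
      rw [← mem_powers_iff_mem_zpowers] at hu
      obtain ⟨k, rfl⟩ := hu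
      show ((((ζ : Fˣ) ^ (2 * 9 - 1)) ^ k : Fˣ) : F) * a ∈ Q.A
      rw [pow_right_comm]
      exact Q.actA _ (pow_mem ζ.2 k) a ha)
    rw [Nat.card_zpowers, hord, hj'] at hdvd
    have hd20 := Nat.le_of_dvd (by norm_num) h20
    have hj0 : j ≠ 0 := by
      rintro rfl
      have := Nat.mul_le_mul (le_of_eq (hP.trans (by rw [hj']; norm_num) : Q.P = 3)) hd20
      omega
    interval_cases j <;> omega
  have hd4 : Q.d ∣ 4 := by
    have hcop : Nat.Coprime Q.d 5 :=
      ((Nat.Prime.coprime_iff_not_dvd Nat.prime_five).2 h5).symm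
    exact hcop.dvd_of_dvd_mul_right (show Q.d ∣ 4 * 5 from h20)
  have hdle := Nat.le_of_dvd (by norm_num) hd4
  have h27 : Nat.card Q.A ≠ 27 := by
    intro h27
    have hline : ∀ a ∈ Q.A, ∀ u : Fˣ, (u : F) ^ 9 = u → (u : F) * a ∈ Q.A := by
      intro a ha u hu
      rcases eq_or_ne a 0 with rfl | ha0
      · simpa using Q.A.zero_mem
      have h1 := Q.card_le_kernel hF ha
      rw [h27, hB] at h1
      have h3 : {c : F | a * c ^ 9 = c * a ^ 9}.ncard ≤ 9 := by
        rw [← Nat.card_coe_set_eq]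
        refine le_trans (Nat.card_le_card_of_injective
          (β := {x : F // x ^ 9 = x}) (fun c => ⟨c.1 / a, kernel_div ha0 c.2⟩) fun c c' h => ?_)
          (card_fixed hF).le
        exact Subtype.ext (by simpa [div_left_inj' ha0] using congrArg Subtype.val h)
      have heq := Set.eq_of_subset_of_ncard_le
        (s := {c : F | c ∈ Q.A ∧ a * c ^ 9 = c * a ^ 9}) (t := {c : F | a * c ^ 9 = c * a ^ 9})
        (fun c hc => hc.2) (by omega) (Set.toFinite _)
      have hmem : (u : F) * a ∈ {c : F | a * c ^ 9 = c * a ^ 9} := by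
        show a * ((u : F) * a) ^ 9 = (u : F) * a * a ^ 9
        rw [mul_pow, hu]; ring
      rw [← heq] at hmem
      exact hmem.1
    have hdvd := card_dvd_sub_one Q.A (powMonoidHom (α := Fˣ) 8).ker (by
      intro u hu a ha
      refine hline a ha u ?_
      rw [← Units.val_pow_eq_pow_val, pow_succ,
        show u ^ 8 = 1 from MonoidHom.mem_ker.1 hu, one_mul])
    rw [IsCyclic.card_powMonoidHom_ker, card_units_eq hF, h27] at hdvd
    norm_num at hdvd
  interval_cases j
  all_goals simp only [hj', pow_zero, pow_one] at hP h27 hA27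
  all_goals try omega
  · have := Nat.mul_le_mul_left Q.P hdle
    omega
  · have := Nat.mul_le_mul_left Q.P hdle
    omega
  · refine ⟨by omega, ?_⟩
    rw [hP] at hbig
    norm_num at hbig
    have h3 : 3 ≤ Q.d := by omega
    interval_cases h : Q.d <;> omega

end Params

/-- The numeric obstruction used for the chord group. -/
theorem no_chord {a m : ℕ} (hpp : IsPrimePow (a * m)) (ha : 2 ≤ a) (hm : 2 ≤ m)
    (h : a * m + 1 ∣ 2 * (a ^ 2 - 1)) : False := by
  have key : ∀ b c : ℕ, 2 ≤ b → b ≤ c → IsPrimePow (b * c) → b * c + 1 ∣ 2 * (b ^ 2 - 1) →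
      False := by
    intro b c hb hbc hpp h
    obtain ⟨k, hk⟩ := h
    have hb2 : b ^ 2 ≤ b * c := by rw [sq]; exact Nat.mul_le_mul_left b hbc
    have hb4 : 4 ≤ b ^ 2 := Nat.pow_le_pow_left hb 2
    rcases Nat.lt_or_ge k 2 with hk2 | hk2
    · interval_cases k
      · omega
      · have hb3 : b ∣ 3 := by
          have e : b * (2 * b) = b * c + 3 := by
            have : 2 * b ^ 2 = b * (2 * b) := by ring
            omega
          have := Nat.dvd_sub (Dvd.intro _ e) (dvd_mul_right b c)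
          rwa [Nat.add_sub_cancel_left] at this
        rcases (Nat.dvd_prime Nat.prime_three).1 hb3 with rfl | rfl
        · omega
        · have hc : c = 5 := by omega
          subst hc
          obtain ⟨r, n, hr, hn, hrn⟩ := (isPrimePow_nat_iff _).1 hpp
          have e3 := (Nat.prime_dvd_prime_iff_eq Nat.prime_three hr).1
            (Nat.prime_three.dvd_of_dvd_pow (hrn ▸ (by norm_num : 3 ∣ 3 * 5)))
          have e5 := (Nat.prime_dvd_prime_iff_eq Nat.prime_five hr).1
            (Nat.prime_five.dvd_of_dvd_pow (hrn ▸ (by norm_num : 5 ∣ 3 * 5)))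
          omega
    · have := Nat.mul_le_mul_left (b * c + 1) hk2
      omega
  rcases le_total a m with hle | hle
  · exact key a m ha hle hpp h
  · refine key m a hm hle (mul_comm a m ▸ hpp) ?_
    rw [mul_comm m a]
    have h1 : ((a * m + 1 : ℕ) : ℤ) ∣ ((2 * (a ^ 2 - 1) : ℕ) : ℤ) := Int.natCast_dvd_natCast.2 h
    apply Int.natCast_dvd_natCast.1
    rw [Nat.cast_mul, Nat.cast_sub (Nat.one_le_pow _ _ (by omega))] at h1 ⊢
    push_cast at h1 ⊢
    have h2 := (h1.mul_left ((m : ℤ) ^ 2))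
    have h3 : ((a : ℤ) * m + 1) ∣ 2 * ((a : ℤ) * m + 1) * ((a : ℤ) * m - 1) := ⟨2 * ((a : ℤ) * m - 1), by ring⟩
    have e : 2 * ((m : ℤ) ^ 2 - 1) = 2 * ((a : ℤ) * m + 1) * ((a : ℤ) * m - 1) -
        (m : ℤ) ^ 2 * (2 * ((a : ℤ) ^ 2 - 1)) := by ring
    rw [e]
    exact h3.sub h2

end Cfsg.Agent.Lib.MinIndexPSU3
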