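import Mathlib
import Cfsg.Agent.Lib.MinIndexPSU.Overgroup
import Cfsg.Agent.Lib.MinIndexPSU3.Arith

/-!
Lib/MinIndexPSU3/Frame: the stabiliser of an isotropic line in `SU 3 F q`.
-/

set_option autoImplicit false
set_option linter.unusedSectionVars false
set_option linter.style.haveILetI false

namespace Cfsg.Agent.Lib.MinIndexPSU3

open Matrix Module Cfsg.Agent.Lib.Unitary Cfsg.Agent.Lib.AutPSU Cfsg.Agent.Lib.MinIndexPSU

variable {F : Type*} [Field F] [Fintype F] {q : ℕ}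

local notation "V3" => Fin 3 → F

/-- A hyperbolic pair with a unit vector orthogonal to it. -/
structure Frame (F : Type*) [Field F] [Fintype F] (q : ℕ) where
  /-- first isotropic vector -/
  e : Fin 3 → F
  /-- second isotropic vector -/
  f : Fin 3 → F
  /-- unit vector -/
  w : Fin 3 → F
  hyp : Hyp q e f
  we : hermForm 3 F q w e = 0
  wf : hermForm 3 F q w f = 0
  ww : hermForm 3 F q w w = 1

theorem exists_frame_of_hyp (hF : Fintype.card F = q ^ 2) {e f : V3} (h : Hyp q e f) :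
    ∃ Φ : Frame F q, Φ.e = e ∧ Φ.f = f := by
  obtain ⟨w, hw, hww⟩ := exists_norm_one_of_nondeg hF (nondeg_rest hF h) (fun hb => by
    have := finrank_rest hF h
    rw [hb, finrank_bot] at this; omega)
  obtain ⟨h1, h2⟩ := (mem_rest hF).1 hw
  exact ⟨⟨e, f, w, h, h1, h2, hww⟩, rfl, rfl⟩

theorem exists_frame_of_iso (hF : Fintype.card F = q ^ 2) {v : V3} (hv : IsoVec q v) :
    ∃ Φ : Frame F q, Φ.e = v := by
  obtain ⟨f, hf⟩ := exists_hyp hF hv.1 hv.2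
  obtain ⟨Φ, hΦ, -⟩ := exists_frame_of_hyp hF hf
  exact ⟨Φ, hΦ⟩

theorem exists_frame3 (hF : Fintype.card F = q ^ 2) : Nonempty (Frame F q) := by
  obtain ⟨e, f, hef⟩ := exists_hyp_any hF (n := 3) (by norm_num)
  obtain ⟨Φ, -, -⟩ := exists_frame_of_hyp hF hef
  exact ⟨Φ⟩

namespace Frame

variable (Φ : Frame F q)

theorem e_ne : Φ.e ≠ 0 := ne_zero_of_hyp Φ.hyp

theorem w_ne : Φ.w ≠ 0 := fun h => by simpa [h, herm_zero_left] using Φ.ww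

theorem f_ne (hF : Fintype.card F = q ^ 2) : Φ.f ≠ 0 := ne_zero_of_hyp (Φ.hyp.swap hF)

theorem w_mem (hF : Fintype.card F = q ^ 2) : Φ.w ∈ rest q Φ.e Φ.f := (mem_rest hF).2 ⟨Φ.we, Φ.wf⟩

theorem ew (hF : Fintype.card F = q ^ 2) : hermForm 3 F q Φ.e Φ.w = 0 := herm_eq_zero_symm hF Φ.we

theorem fw (hF : Fintype.card F = q ^ 2) : hermForm 3 F q Φ.f Φ.w = 0 := herm_eq_zero_symm hF Φ.wf

theorem rest_eq (hF : Fintype.card F = q ^ 2) {z : V3} (hz : z ∈ rest q Φ.e Φ.f) :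
    z = hermForm 3 F q z Φ.w • Φ.w := by
  have h1 := finrank_rest hF Φ.hyp
  have hle : Submodule.span F {Φ.w} ≤ rest q Φ.e Φ.f :=
    (Submodule.span_singleton_le_iff_mem _ _).2 (Φ.w_mem hF)
  have heq : Submodule.span F {Φ.w} = rest q Φ.e Φ.f :=
    Submodule.eq_of_le_of_finrank_eq hle (by rw [finrank_span_singleton Φ.w_ne]; omega)
  rw [← heq] at hz
  obtain ⟨a, rfl⟩ := Submodule.mem_span_singleton.1 hz
  rw [herm_smul_left, Φ.ww, mul_one]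

theorem coord (hF : Fintype.card F = q ^ 2) (v : V3) :
    v = hermForm 3 F q v Φ.f • Φ.e + hermForm 3 F q v Φ.e • Φ.f +
      hermForm 3 F q v Φ.w • Φ.w := by
  conv_lhs => rw [eq_proj (q := q) (e := Φ.e) (f := Φ.f) v]
  congr 1
  rw [Φ.rest_eq hF (proj_mem hF Φ.hyp v)]
  congr 1
  simp [proj, herm_sub_left, herm_smul_left, Φ.ew hF, Φ.fw hF]

theorem ext' (hF : Fintype.card F = q ^ 2) {X Y : SU 3 F q}
    (h1 : X.1.1 *ᵥ Φ.e = Y.1.1 *ᵥ Φ.e) (h2 : X.1.1 *ᵥ Φ.f = Y.1.1 *ᵥ Φ.f)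
    (h3 : X.1.1 *ᵥ Φ.w = Y.1.1 *ᵥ Φ.w) : X = Y := by
  refine AutPSU.SU_ext fun v => ?_
  rw [Φ.coord hF v]
  simp only [Matrix.mulVec_add, Matrix.mulVec_smul, h1, h2, h3]

/-- Elements preserving the two isotropic lines. -/
theorem diag (hF : Fintype.card F = q ^ 2) {X : SU 3 F q} {ζ ν : F}
    (he : X.1.1 *ᵥ Φ.e = ζ • Φ.e) (hf : X.1.1 *ᵥ Φ.f = ν • Φ.f) :
    ζ ≠ 0 ∧ ν * ζ ^ q = 1 ∧ X.1.1 *ᵥ Φ.w = (ζ ^ q * ζ⁻¹) • Φ.w := by
  have h1 := SU_herm X Φ.f Φ.e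
  rw [he, hf, herm_smul_left, herm_smul_right, Φ.hyp.symm' hF, mul_one] at h1
  have hζ : ζ ≠ 0 := fun h => by simp [h, zero_pow_q hF] at h1
  have hν : ν = (ζ ^ q)⁻¹ := eq_inv_of_mul_eq_one_left h1
  refine ⟨hζ, h1, ?_⟩
  have hwr : X.1.1 *ᵥ Φ.w ∈ rest q Φ.e Φ.f := by
    have h2 := SU_herm X Φ.w Φ.e
    have h3 := SU_herm X Φ.w Φ.f
    rw [he, herm_smul_right, Φ.we] at h2
    rw [hf, herm_smul_right, Φ.wf] at h3
    have hν0 : ν ≠ 0 := left_ne_zero_of_mul_eq_one h1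
    exact (mem_rest hF).2 ⟨(mul_eq_zero.1 h2).resolve_left (pow_ne_zero q hζ),
      (mul_eq_zero.1 h3).resolve_left (pow_ne_zero q hν0)⟩
  set c := hermForm 3 F q (X.1.1 *ᵥ Φ.w) Φ.w with hcdef
  have hwc : X.1.1 *ᵥ Φ.w = c • Φ.w := Φ.rest_eq hF hwr
  have hc : c * c ^ q = 1 := by
    have h4 := SU_herm X Φ.w Φ.w
    rw [hwc, herm_smul_left, herm_smul_right, Φ.ww, mul_one] at h4
    exact h4
  obtain ⟨A, hAdet, hAe, hAf, hAw⟩ := exists_GU_hyp_scale hF Φ.hyp hζ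
  obtain ⟨B, hBdet, hBw, hBfix⟩ := exists_GU_scale hF Φ.ww hc
  have hXeq : suToGU 3 F q X = B * A := by
    refine GU_ext fun v => ?_
    rw [suToGU_val, GU_mul_mulVec, Φ.coord hF v]
    simp only [Matrix.mulVec_add, Matrix.mulVec_smul, he, hf, hwc, hAe, hAf, hν,
      hAw Φ.w Φ.we Φ.wf, hBw, hBfix Φ.e (Φ.ew hF), hBfix Φ.f (Φ.fw hF)]
  have hdet : (B * A).1.1.det = 1 := by
    rw [← hXeq, suToGU_val]; exact X.1.2
  rw [Subgroup.coe_mul, Units.val_mul, Matrix.det_mul, hBdet, hAdet] at hdet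
  rw [hwc]
  congr 1
  have hζq : ζ ^ q ≠ 0 := pow_ne_zero q hζ
  field_simp at hdet ⊢
  linear_combination hdet

/-- Splitting off the unipotent part. -/
theorem decomp (hF : Fintype.card F = q ^ 2) {g : SU 3 F q} {ζ : F}
    (hg : g.1.1 *ᵥ Φ.e = ζ • Φ.e) :
    ∃ Y t : SU 3 F q, g = Y * t ∧ Y ∈ QS Φ.e ∧ t.1.1 *ᵥ Φ.e = ζ • Φ.e ∧
      t.1.1 *ᵥ Φ.f = (ζ ^ q)⁻¹ • Φ.f := by
  have hζ : ζ ≠ 0 := fun h => Φ.e_ne (by
    rw [← AutPSU.SU_mulVec_inv g⁻¹ Φ.e, inv_inv, hg, h, zero_smul, Matrix.mulVec_zero])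
  set f2 := ζ ^ q • (g.1.1 *ᵥ Φ.f) with hf2
  have h1 : hermForm 3 F q f2 f2 = 0 := by
    rw [hf2, herm_smul_left, herm_smul_right, SU_herm, Φ.hyp.2.1, mul_zero, mul_zero]
  have h2 : hermForm 3 F q f2 Φ.e = 1 := by
    have h3 := SU_herm g Φ.f Φ.e
    rw [hg, herm_smul_right, Φ.hyp.symm' hF] at h3
    rw [hf2, herm_smul_left]
    exact h3
  set z := proj q Φ.e Φ.f f2 with hzdef
  set d := hermForm 3 F q f2 Φ.f
  have hz : z ∈ rest q Φ.e Φ.f := proj_mem hF Φ.hyp f2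
  have hze : hermForm 3 F q z Φ.e = 0 := ((mem_rest hF).1 hz).1
  have hzf : hermForm 3 F q z Φ.f = 0 := ((mem_rest hF).1 hz).2
  have hf2eq : f2 = d • Φ.e + (1 : F) • Φ.f + z := by
    conv_lhs => rw [eq_proj (q := q) (e := Φ.e) (f := Φ.f) f2, h2]
  have hd : d + d ^ q + hermForm 3 F q z z = 0 := by
    have := h1
    rw [hf2eq] at this
    simp only [herm_add_left, herm_add_right _ _ _ hF, herm_smul_left, herm_smul_right, Φ.hyp.1,
      Φ.hyp.2.1, Φ.hyp.2.2, Φ.hyp.symm' hF, hze, hzf, herm_eq_zero_symm hF hze,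
      herm_eq_zero_symm hF hzf, mul_zero, mul_one, zero_add, add_zero, one_pow, one_mul] at this
    linear_combination this
  obtain ⟨Y, hY⟩ := exists_SU_eich hF Φ.hyp.1 hze hd
  have hYQ : Y ∈ QS Φ.e := mem_QS_of_eich hF Φ.hyp.1 hze hY
  have hYf : Y.1.1 *ᵥ Φ.f = f2 := by
    have := hY Φ.f
    rw [suToGU_val, Φ.hyp.symm' hF, herm_eq_zero_symm hF hzf] at this
    rw [this, hf2eq]
    module
  refine ⟨Y, Y⁻¹ * g, by group, hYQ, ?_, ?_⟩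
  · rw [Unitary.SU_mul_mulVec, hg, Matrix.mulVec_smul]
    congr 1
    conv_lhs => rw [← hYQ.1, Unitary.SU_inv_mulVec]
  · rw [Unitary.SU_mul_mulVec, show g.1.1 *ᵥ Φ.f = (ζ ^ q)⁻¹ • f2 by
      rw [hf2, smul_smul, inv_mul_cancel₀ (pow_ne_zero q hζ), one_smul], Matrix.mulVec_smul,
      ← hYf, Unitary.SU_inv_mulVec]

theorem PS_eq_QS (hF : Fintype.card F = q ^ 2) : PS (q := q) Φ.e = QS Φ.e := by
  refine le_antisymm (fun g hg => ?_) (QS_le_PS _)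
  obtain ⟨Y, t, rfl, hY, hte, htf⟩ := Φ.decomp hF (g := g) (ζ := 1)
    (by rw [one_smul]; exact hg)
  obtain ⟨-, -, htw⟩ := Φ.diag hF hte htf
  have ht : t = 1 := Φ.ext' hF (by simp [hte]) (by simp [htf]) (by simp [htw])
  rw [ht, mul_one]
  exact hY

/-- The rest coordinate. -/
def al (X : SU 3 F q) : F := hermForm 3 F q (X.1.1 *ᵥ Φ.f) Φ.w

theorem zp_eq (hF : Fintype.card F = q ^ 2) (X : SU 3 F q) :
    zp Φ.e Φ.f X = Φ.al X • Φ.w := by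
  rw [Φ.rest_eq hF (zp_mem hF Φ.hyp X)]
  congr 1
  simp [zp, al, proj, herm_sub_left, herm_smul_left, Φ.ew hF, Φ.fw hF]

theorem al_mul (hF : Fintype.card F = q ^ 2) {X Y : SU 3 F q} (hX : X ∈ QS Φ.e)
    (hY : Y ∈ QS Φ.e) : Φ.al (X * Y) = Φ.al X + Φ.al Y := by
  refine smul_left_injective F Φ.w_ne ?_
  simp only [add_smul, ← Φ.zp_eq hF, zp_mul hF Φ.hyp hX hY]

theorem mem_RS_of_al (hF : Fintype.card F = q ^ 2) {X : SU 3 F q} (hX : X ∈ QS Φ.e)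
    (h : Φ.al X = 0) : X ∈ RS Φ.e :=
  mem_RS_of_zp hF Φ.hyp hX (by rw [Φ.zp_eq hF, h, zero_smul])

theorem al_of_RS (hF : Fintype.card F = q ^ 2) {X : SU 3 F q} (hX : X ∈ RS Φ.e) : Φ.al X = 0 :=
  smul_left_injective F Φ.w_ne (by
    simp only [zero_smul, ← Φ.zp_eq hF, zp_of_RS hF Φ.hyp hX])

theorem w_image (hF : Fintype.card F = q ^ 2) {g : SU 3 F q} {ζ : F}
    (hg : g.1.1 *ᵥ Φ.e = ζ • Φ.e) :
    proj q Φ.e Φ.f (g.1.1 *ᵥ Φ.w) = (ζ ^ q * ζ⁻¹) • Φ.w := by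
  obtain ⟨Y, t, rfl, hY, hte, htf⟩ := Φ.decomp hF hg
  obtain ⟨-, -, htw⟩ := Φ.diag hF hte htf
  obtain ⟨a, ha⟩ := hY.2 Φ.w Φ.we
  rw [Unitary.SU_mul_mulVec, htw, Matrix.mulVec_smul, ha, proj_smul, proj_add, proj_smul,
    proj_of_mem hF (Φ.w_mem hF), show proj q Φ.e Φ.f Φ.e = 0 by
      simpa using proj_plane hF Φ.hyp (1 : F) 0, smul_zero, add_zero]

theorem al_conj (hF : Fintype.card F = q ^ 2) {g X : SU 3 F q} {ζ : F}
    (hg : g.1.1 *ᵥ Φ.e = ζ • Φ.e) (hX : X ∈ QS Φ.e) :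
    Φ.al (g * X * g⁻¹) = ζ ^ (2 * q - 1) * Φ.al X := by
  refine smul_left_injective F Φ.w_ne ?_
  simp only
  rw [← Φ.zp_eq hF, zp_conj hF Φ.hyp hg hX, Φ.zp_eq hF, Matrix.mulVec_smul, proj_smul,
    Φ.w_image hF hg, smul_smul, smul_smul]
  congr 1
  have hζ : ζ ≠ 0 := fun h => Φ.e_ne (by
    rw [← AutPSU.SU_mulVec_inv g⁻¹ Φ.e, inv_inv, hg, h, zero_smul, Matrix.mulVec_zero])
  have h1q := one_lt_q hF
  rw [show 2 * q - 1 = q + (q - 1) by omega, pow_add,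
    show ζ ^ (q - 1) = ζ ^ q * ζ⁻¹ by
      rw [← pow_sub_one_mul (show q ≠ 0 by omega) ζ, mul_inv_cancel_right₀ hζ]]
  ring

/-- The character of the line stabiliser. -/
def chi (hF : Fintype.card F = q ^ 2) : NS (q := q) Φ.e →* Fˣ :=
  MonoidHom.mk' (fun g => Units.mk0 (hermForm 3 F q (g.1.1.1 *ᵥ Φ.e) Φ.f) (by
      obtain ⟨a, ha, hg⟩ := g.2
      rw [hg, herm_smul_left, Φ.hyp.2.2, mul_one]
      exact ha))
    (by
      rintro ⟨g, a, ha, hg⟩ ⟨k, b, hb, hk⟩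
      ext
      show hermForm 3 F q ((g * k).1.1 *ᵥ Φ.e) Φ.f =
        hermForm 3 F q (g.1.1 *ᵥ Φ.e) Φ.f * hermForm 3 F q (k.1.1 *ᵥ Φ.e) Φ.f
      rw [Unitary.SU_mul_mulVec, hk, Matrix.mulVec_smul, hg, smul_smul, herm_smul_left,
        herm_smul_left, herm_smul_left, Φ.hyp.2.2]
      ring)

theorem chi_spec (hF : Fintype.card F = q ^ 2) (g : NS (q := q) Φ.e) :
    g.1.1.1 *ᵥ Φ.e = (Φ.chi hF g : F) • Φ.e := by
  obtain ⟨a, ha, hg⟩ := g.2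
  show _ = hermForm 3 F q (g.1.1.1 *ᵥ Φ.e) Φ.f • Φ.e
  rw [hg, herm_smul_left, Φ.hyp.2.2, mul_one]

theorem chi_surjective (hF : Fintype.card F = q ^ 2) : Function.Surjective (Φ.chi hF) := fun ζ => by
  obtain ⟨g, hg, -, -⟩ := exists_torus hF Φ.hyp le_rfl ζ.ne_zero
  refine ⟨⟨g, ζ, ζ.ne_zero, hg⟩, Units.ext ?_⟩
  show hermForm 3 F q (g.1.1 *ᵥ Φ.e) Φ.f = ζ
  rw [hg, herm_smul_left, Φ.hyp.2.2, mul_one]

theorem mem_ker_chi (hF : Fintype.card F = q ^ 2) (g : NS (q := q) Φ.e) :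
    g ∈ (Φ.chi hF).ker ↔ g.1 ∈ QS Φ.e := by
  rw [MonoidHom.mem_ker, ← Φ.PS_eq_QS hF]
  refine ⟨fun h => ?_, fun h => Units.ext ?_⟩
  · show g.1.1.1 *ᵥ Φ.e = Φ.e
    rw [Φ.chi_spec hF, h, Units.val_one, one_smul]
  · show hermForm 3 F q (g.1.1.1 *ᵥ Φ.e) Φ.f = 1
    rw [show g.1.1.1 *ᵥ Φ.e = Φ.e from h, Φ.hyp.2.2]

theorem index_NS (hF : Fintype.card F = q ^ 2) : (NS (q := q) Φ.e).index = q ^ 3 + 1 := by
  have h := index_NS_mul hF (le_refl 3) Φ.hyp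
  rw [countNull_succ_eq hF, if_pos (by decide : Even 2), Nat.add_sub_cancel] at h
  have h1q := one_lt_q hF
  exact Nat.eq_of_mul_eq_mul_right (by have := Nat.one_lt_pow (show (2 : ℕ) ≠ 0 by norm_num) h1q; omega) h

theorem card_QS' (hF : Fintype.card F = q ^ 2) : Nat.card (QS (q := q) Φ.e) = q ^ 3 := by
  rw [card_QS hF Φ.hyp]; ring

theorem card_NS (hF : Fintype.card F = q ^ 2) :
    Nat.card (NS (q := q) Φ.e) = q ^ 3 * (q ^ 2 - 1) := by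
  rw [Subgroup.card_eq_card_quotient_mul_card_subgroup (Φ.chi hF).ker, mul_comm,
    Nat.card_congr (QuotientGroup.quotientKerEquivOfSurjective _ (Φ.chi_surjective hF)).toEquiv,
    card_units_eq hF, ← Φ.card_QS' hF]
  congr 1
  exact Nat.card_congr
    { toFun := fun g => ⟨g.1.1, (Φ.mem_ker_chi hF g.1).1 g.2⟩
      invFun := fun X => ⟨⟨X.1, QS_le_NS _ X.2⟩, (Φ.mem_ker_chi hF _).2 X.2⟩
      left_inv := fun g => rfl
      right_inv := fun X => rfl }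

theorem card_SU3 (hF : Fintype.card F = q ^ 2) (Φ : Frame F q) :
    Nat.card (SU 3 F q) = (q ^ 3 + 1) * (q ^ 3 * (q ^ 2 - 1)) := by
  rw [← Φ.index_NS hF, ← Φ.card_NS hF, Subgroup.index_mul_card]

/-- A non-trivial element of `QS e` fixes no other isotropic line. -/
theorem eq_of_fix (hF : Fintype.card F = q ^ 2) {X : SU 3 F q} (hX : X ∈ QS Φ.e) (hX1 : X ≠ 1)
    {b : V3} (hb : IsoVec q b) (hXb : X ∈ NS b) : ∃ c : F, c ≠ 0 ∧ b = c • Φ.e := by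
  obtain ⟨a, ha, hab⟩ := hXb
  obtain ⟨z, d, hze, hzf, hd, hA⟩ := QS_param hF Φ.hyp hX
  have hXv := hA b
  rw [suToGU_val, hab] at hXv
  by_cases hbe : hermForm 3 F q b Φ.e = 0
  · by_contra hcon
    have hli : LinearIndependent F ![Φ.e, b] := by
      rw [LinearIndependent.pair_iff' Φ.e_ne]
      intro c hc
      refine hcon ⟨c, fun h => hb.1 ?_, hc.symm⟩
      rw [← hc, h, zero_smul]
    have := four_le_of_orth hF hli Φ.hyp.1 hb.2 (herm_eq_zero_symm hF hbe)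
    omega
  · exfalso
    apply hX1
    have h1 := congrArg (fun v => hermForm 3 F q v Φ.e) hXv
    simp only [herm_add_left, herm_smul_left, hze, Φ.hyp.1, mul_zero, add_zero] at h1
    have ha1 : a = 1 := mul_right_cancel₀ hbe (h1.trans (one_mul _).symm)
    rw [ha1, one_smul, add_assoc, left_eq_add] at hXv
    obtain ⟨h2, -, h3⟩ := eq_zero_of_mem_rest hF Φ.hyp
      (a := d * hermForm 3 F q b Φ.e - hermForm 3 F q b z) (b := 0)
      (w := hermForm 3 F q b Φ.e • z)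
      ((rest q Φ.e Φ.f).smul_mem _ ((mem_rest hF).2 ⟨hze, hzf⟩))
      (by rw [zero_smul, add_zero, add_comm]; exact hXv)
    have hz : z = 0 := (smul_eq_zero.1 h3).resolve_left hbe
    subst hz
    rw [herm_zero_right _ hF, sub_zero] at h2
    have hd0 : d = 0 := (mul_eq_zero.1 h2).resolve_right hbe
    subst hd0
    apply suToGU_injective
    refine GU_ext fun x => ?_
    rw [hA x, map_one]
    simp [herm_zero_right _ hF]

end Frame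

end Cfsg.Agent.Lib.MinIndexPSU3
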