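import Mathlib
import Cfsg.Agent.Lib.MinIndexPSU3.Frame

/-!
Lib/MinIndexPSU3/Points: orbits of subgroups of `SU 3 F q` on isotropic lines.
-/

set_option autoImplicit false
set_option linter.unusedSectionVars false
set_option linter.style.haveILetI false

namespace Cfsg.Agent.Lib.MinIndexPSU3

open Matrix Module MulAction Cfsg.Agent.Lib.Unitary Cfsg.Agent.Lib.AutPSU
  Cfsg.Agent.Lib.MinIndexPSU

/-- A group with, at each point of an invariant set, a `p`-subgroup fixing only that point of the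
set is transitive on the set. -/
theorem orbit_of_pgroups {p : ℕ} [Fact p.Prime] {M Ω : Type*} [Group M] [Finite Ω]
    [MulAction M Ω] (S : Set Ω) (hS : ∀ m : M, ∀ x ∈ S, m • x ∈ S)
    (h : ∀ a ∈ S, ∃ P : Subgroup M, IsPGroup p P ∧ (∀ g ∈ P, g • a = a) ∧
      ∀ b ∈ S, (∀ g ∈ P, g • b = b) → b = a)
    {a b : Ω} (ha : a ∈ S) (hb : b ∈ S) : ∃ m : M, m • a = b := by
  classical
  by_contra hcon
  have hbO : b ∉ orbit M a := fun hmem => hcon hmem
  have hsub : ∀ x : orbit M a, (x : Ω) ∈ S := by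
    rintro ⟨_, m, rfl⟩
    exact hS m a ha
  obtain ⟨P, hP, hPa, hPuniq⟩ := h a ha
  obtain ⟨P', hP', -, hP'uniq⟩ := h b hb
  have h1 : Nat.card (fixedPoints P (orbit M a)) = 1 := by
    rw [Nat.card_eq_one_iff_unique]
    refine ⟨⟨fun x y => ?_⟩, ⟨⟨⟨a, mem_orbit_self a⟩, fun g => Subtype.ext (hPa g g.2)⟩⟩⟩
    have key : ∀ z : fixedPoints P (orbit M a), ((z : orbit M a) : Ω) = a := fun z =>
      hPuniq _ (hsub z.1) fun g hg => congrArg Subtype.val (z.2 ⟨g, hg⟩)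
    exact Subtype.ext (Subtype.ext ((key x).trans (key y).symm))
  have h0 : Nat.card (fixedPoints P' (orbit M a)) = 0 := by
    rw [Nat.card_eq_zero]
    refine Or.inl ⟨fun z => hbO ?_⟩
    rw [← hP'uniq _ (hsub z.1) fun g hg => congrArg Subtype.val (z.2 ⟨g, hg⟩)]
    exact z.1.2
  have e1 := hP.card_modEq_card_fixedPoints (orbit M a)
  have e0 := hP'.card_modEq_card_fixedPoints (orbit M a)
  rw [h1] at e1
  rw [h0] at e0
  have : 1 % p = 0 % p := e1.symm.trans e0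
  rw [Nat.one_mod_eq_one.2 (Fact.out : p.Prime).ne_one, Nat.zero_mod] at this
  exact one_ne_zero this

variable {F : Type*} [Field F] [Fintype F] {q : ℕ}

local notation "V3" => Fin 3 → F

theorem NS_smul {v : V3} {c : F} (hc : c ≠ 0) : NS (q := q) (c • v) = NS v := by
  have key : ∀ {v : V3} {c : F}, c ≠ 0 → NS (q := q) v ≤ NS (c • v) := by
    rintro v c hc X ⟨a, ha, hX⟩
    exact ⟨a, ha, by rw [Matrix.mulVec_smul, hX, smul_comm]⟩
  refine le_antisymm ?_ (key hc)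
  have := key (v := c • v) (inv_ne_zero hc)
  rwa [smul_smul, inv_mul_cancel₀ hc, one_smul] at this

/-- `K` carries each isotropic line in `R` to any other one. -/
def TransOn (K : Subgroup (SU 3 F q)) (R : V3 → Prop) : Prop :=
  ∀ u v : V3, IsoVec q u → IsoVec q v → R u → R v →
    ∃ k ∈ K, ∃ c : F, c ≠ 0 ∧ k.1.1 *ᵥ u = c • v

theorem IsoVec.map {v : V3} (hv : IsoVec q v) (X : SU 3 F q) : IsoVec q (X.1.1 *ᵥ v) :=
  ⟨fun h0 => hv.1 (by rw [← Unitary.SU_inv_mulVec X v, h0, Matrix.mulVec_zero]),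
    by rw [SU_herm, hv.2]⟩

/-- The isotropic lines. -/
abbrev Pt (Φ : Frame F q) : Type _ := SU 3 F q ⧸ NS (q := q) Φ.e

theorem pt_eq_iff (Φ : Frame F q) (g h : SU 3 F q) :
    (QuotientGroup.mk g : Pt Φ) = QuotientGroup.mk h ↔
      ∃ c : F, c ≠ 0 ∧ h.1.1 *ᵥ Φ.e = c • (g.1.1 *ᵥ Φ.e) := by
  rw [QuotientGroup.eq]
  constructor
  · rintro ⟨c, hc, hh⟩
    refine ⟨c, hc, ?_⟩
    rw [← Matrix.mulVec_smul, ← hh, Unitary.SU_mul_mulVec, AutPSU.SU_mulVec_inv]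
  · rintro ⟨c, hc, hh⟩
    refine ⟨c, hc, ?_⟩
    rw [Unitary.SU_mul_mulVec, hh, Matrix.mulVec_smul, Unitary.SU_inv_mulVec]

theorem exists_pt (hF : Fintype.card F = q ^ 2) (Φ : Frame F q) {v : V3} (hv : IsoVec q v) :
    ∃ g : SU 3 F q, g.1.1 *ᵥ Φ.e = v := by
  obtain ⟨A, hA, hAe⟩ := exists_SU_isotropic hF le_rfl Φ.e_ne Φ.hyp.1 hv.1 hv.2
  obtain ⟨X, hX⟩ := exists_SU_of_GU hA
  exact ⟨X, by rw [hX, hAe]⟩

theorem isoVec_e (Φ : Frame F q) : IsoVec q Φ.e := ⟨Φ.e_ne, Φ.hyp.1⟩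

theorem transOn_of_pgroups (hF : Fintype.card F = q ^ 2) (K : Subgroup (SU 3 F q)) (R : V3 → Prop)
    (hR : ∀ k ∈ K, ∀ v, R v → R (k.1.1 *ᵥ v))
    (h : ∀ v, IsoVec q v → R v → ∃ X ∈ K, X ∈ QS v ∧ X ≠ 1) : TransOn K R := by
  obtain ⟨p, k, hp, hchar, -, -⟩ := q_eq_primePow hF
  haveI := Fact.mk hp
  haveI := hchar
  obtain ⟨Φ⟩ := exists_frame3 (q := q) hF
  intro u v hu hv hRu hRv
  obtain ⟨gu, hgu⟩ := exists_pt hF Φ hu
  obtain ⟨gv, hgv⟩ := exists_pt hF Φ hv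
  let S : Set (Pt Φ) := {x | ∃ g : SU 3 F q, QuotientGroup.mk g = x ∧ R (g.1.1 *ᵥ Φ.e)}
  obtain ⟨m, hm⟩ := orbit_of_pgroups (p := p) (M := K) S
    (fun m x hx => by
      obtain ⟨g, rfl, hg⟩ := hx
      exact ⟨m.1 * g, rfl, by rw [Unitary.SU_mul_mulVec]; exact hR _ m.2 _ hg⟩)
    (fun a ha => by
      obtain ⟨g, rfl, hg⟩ := ha
      set a' := g.1.1 *ᵥ Φ.e with ha'
      have hiso : IsoVec q a' := IsoVec.map (isoVec_e Φ) g
      obtain ⟨Ψ, hΨ⟩ := exists_frame_of_iso hF hiso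
      refine ⟨(QS a').subgroupOf K, ?_, fun x hx => ?_, fun b hb hfix => ?_⟩
      · obtain ⟨f, hf⟩ := exists_hyp hF hiso.1 hiso.2
        exact (isPGroup_QS (p := p) hF hf).comap_of_injective K.subtype K.subtype_injective
      · show (QuotientGroup.mk (x.1 * g) : Pt Φ) = QuotientGroup.mk g
        refine (pt_eq_iff Φ _ _).2 ⟨1, one_ne_zero, ?_⟩
        have hx' : x.1.1.1 *ᵥ a' = a' := (Subgroup.mem_subgroupOf.1 hx).1
        rw [one_smul, Unitary.SU_mul_mulVec, ← ha', hx']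
      · obtain ⟨gb, rfl, -⟩ := hb
        obtain ⟨X, hXK, hXQ, hX1⟩ := h a' hiso hg
        have h1 : (QuotientGroup.mk (X * gb) : Pt Φ) = QuotientGroup.mk gb :=
          hfix ⟨X, hXK⟩ hXQ
        obtain ⟨c, hc, h2⟩ := (pt_eq_iff Φ _ _).1 h1.symm
        rw [Unitary.SU_mul_mulVec] at h2
        obtain ⟨d, hd, hbd⟩ := Ψ.eq_of_fix hF (hΨ ▸ hXQ) hX1 (IsoVec.map (isoVec_e Φ) gb)
          ⟨c, hc, h2⟩
        exact (pt_eq_iff Φ _ _).2 ⟨d⁻¹, inv_ne_zero hd, by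
          rw [hbd, hΨ, smul_smul, inv_mul_cancel₀ hd, one_smul]⟩)
    (a := QuotientGroup.mk gu) (b := QuotientGroup.mk gv) ⟨gu, rfl, hgu.symm ▸ hRu⟩
    ⟨gv, rfl, hgv.symm ▸ hRv⟩
  obtain ⟨c, hc, h3⟩ := (pt_eq_iff Φ _ _).1 (show (QuotientGroup.mk (m.1 * gu) : Pt Φ) = _ from hm)
  refine ⟨m.1, m.2, c⁻¹, inv_ne_zero hc, ?_⟩
  rw [Unitary.SU_mul_mulVec, hgu, hgv] at h3
  rw [h3, smul_smul, inv_mul_cancel₀ hc, one_smul]

theorem stabilizer_mk (Φ : Frame F q) (K : Subgroup (SU 3 F q)) (g : SU 3 F q) :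
    stabilizer K (QuotientGroup.mk g : Pt Φ) = (NS (g.1.1 *ᵥ Φ.e)).subgroupOf K := by
  ext x
  rw [mem_stabilizer_iff, Subgroup.mem_subgroupOf]
  show (QuotientGroup.mk (x.1 * g) : Pt Φ) = QuotientGroup.mk g ↔ _
  rw [eq_comm, pt_eq_iff, Unitary.SU_mul_mulVec]
  rfl

theorem card_subgroupOf {G : Type*} [Group G] (H K : Subgroup G) :
    Nat.card (H.subgroupOf K) = Nat.card (H ⊓ K : Subgroup G) := by
  rw [← Subgroup.inf_subgroupOf_right]
  exact Nat.card_congr (Subgroup.subgroupOfEquivOfLe inf_le_right).toEquiv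

theorem orbit_card (hF : Fintype.card F = q ^ 2) (Φ : Frame F q) (K : Subgroup (SU 3 F q))
    (g : SU 3 F q) :
    Nat.card (orbit K (QuotientGroup.mk g : Pt Φ)) *
        Nat.card (K ⊓ NS (g.1.1 *ᵥ Φ.e) : Subgroup (SU 3 F q)) = Nat.card K ∧
      Nat.card (orbit K (QuotientGroup.mk g : Pt Φ)) ≤ q ^ 3 + 1 := by
  constructor
  · rw [inf_comm, ← card_subgroupOf, ← stabilizer_mk, Nat.card_congr (orbitEquivQuotientStabilizer K _)]
    exact (Subgroup.card_eq_card_quotient_mul_card_subgroup _).symm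
  · rw [← Φ.index_NS hF]
    exact Nat.card_le_card_of_injective Subtype.val Subtype.val_injective

/-- If the orbit of `v` is everything then `K` is transitive. -/
theorem transOn_of_full (hF : Fintype.card F = q ^ 2) (Φ : Frame F q) (K : Subgroup (SU 3 F q))
    (g : SU 3 F q) (hfull : q ^ 3 + 1 ≤ Nat.card (orbit K (QuotientGroup.mk g : Pt Φ))) :
    TransOn K fun _ => True := by
  have huniv : orbit K (QuotientGroup.mk g : Pt Φ) = Set.univ := by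
    refine Set.eq_of_subset_of_ncard_le (Set.subset_univ _) ?_ Set.finite_univ
    rw [Set.ncard_univ, ← Nat.card_coe_set_eq]
    exact (Φ.index_NS hF).le.trans hfull
  intro u v hu hv _ _
  obtain ⟨gu, hgu⟩ := exists_pt hF Φ hu
  obtain ⟨gv, hgv⟩ := exists_pt hF Φ hv
  have hmem : (QuotientGroup.mk gv : Pt Φ) ∈ orbit K (QuotientGroup.mk gu : Pt Φ) := by
    have hu' : (QuotientGroup.mk gu : Pt Φ) ∈ orbit K (QuotientGroup.mk g : Pt Φ) := by
      rw [huniv]; trivial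
    rw [orbit_eq_iff.2 hu', huniv]
    trivial
  obtain ⟨m, hm⟩ := hmem
  obtain ⟨c, hc, h3⟩ := (pt_eq_iff Φ _ _).1 (show (QuotientGroup.mk (m.1 * gu) : Pt Φ) = _ from hm)
  refine ⟨m.1, m.2, c⁻¹, inv_ne_zero hc, ?_⟩
  rw [Unitary.SU_mul_mulVec, hgu, hgv] at h3
  rw [h3, smul_smul, inv_mul_cancel₀ hc, one_smul]

theorem card_of_transOn (hF : Fintype.card F = q ^ 2) (Φ : Frame F q) {K : Subgroup (SU 3 F q)}
    (hK : TransOn K fun _ => True) {v : V3} (hv : IsoVec q v) :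
    Nat.card K = (q ^ 3 + 1) * Nat.card (K ⊓ NS v : Subgroup (SU 3 F q)) := by
  obtain ⟨g, hg⟩ := exists_pt hF Φ hv
  have h := orbit_card hF Φ K g
  rw [hg] at h
  have huniv : orbit K (QuotientGroup.mk g : Pt Φ) = Set.univ := by
    refine Set.eq_univ_of_forall fun x => ?_
    obtain ⟨y, rfl⟩ := QuotientGroup.mk_surjective x
    obtain ⟨k, hk, c, hc, hkc⟩ := hK _ _ hv (IsoVec.map (isoVec_e Φ) y) trivial trivial
    refine ⟨⟨k, hk⟩, ?_⟩
    show (QuotientGroup.mk (k * g) : Pt Φ) = QuotientGroup.mk y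
    exact (pt_eq_iff Φ _ _).2 ⟨c⁻¹, inv_ne_zero hc, by
      rw [Unitary.SU_mul_mulVec, hg, hkc, smul_smul, inv_mul_cancel₀ hc, one_smul]⟩
  have hc : Nat.card (orbit K (QuotientGroup.mk g : Pt Φ)) = q ^ 3 + 1 := by
    rw [Nat.card_congr ((Equiv.setCongr huniv).trans (Equiv.Set.univ _))]
    exact Φ.index_NS hF
  rw [← hc, h.1]

/-- The character image of `K ⊓ NS e`. -/
def torusPart (hF : Fintype.card F = q ^ 2) (Φ : Frame F q) (K : Subgroup (SU 3 F q)) :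
    Subgroup Fˣ :=
  (K.subgroupOf (NS (q := q) Φ.e)).map (Φ.chi hF)

theorem card_inf_NS (hF : Fintype.card F = q ^ 2) (Φ : Frame F q) (K : Subgroup (SU 3 F q)) :
    Nat.card (K ⊓ NS Φ.e : Subgroup (SU 3 F q)) =
      Nat.card (K ⊓ QS Φ.e : Subgroup (SU 3 F q)) * Nat.card (torusPart hF Φ K) := by
  rw [← card_subgroupOf]
  set H := K.subgroupOf (NS (q := q) Φ.e)
  let φ : H →* Fˣ := (Φ.chi hF).comp H.subtype
  rw [Subgroup.card_eq_card_quotient_mul_card_subgroup φ.ker, mul_comm,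
    Nat.card_congr (QuotientGroup.quotientKerEquivRange φ).toEquiv,
    show φ.range = torusPart hF Φ K by
      rw [MonoidHom.range_comp, Subgroup.range_subtype]; rfl]
  congr 1
  exact Nat.card_congr
    { toFun := fun x => ⟨x.1.1.1, Subgroup.mem_inf.2 ⟨x.1.2, (Φ.mem_ker_chi hF x.1.1).1 x.2⟩⟩
      invFun := fun X => ⟨⟨⟨X.1, QS_le_NS _ (Subgroup.mem_inf.1 X.2).2⟩, (Subgroup.mem_inf.1 X.2).1⟩,
        (Φ.mem_ker_chi hF _).2 (Subgroup.mem_inf.1 X.2).2⟩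
      left_inv := fun x => rfl
      right_inv := fun X => rfl }

theorem mem_torusPart (hF : Fintype.card F = q ^ 2) (Φ : Frame F q) {K : Subgroup (SU 3 F q)}
    {ζ : Fˣ} : ζ ∈ torusPart hF Φ K ↔ ∃ g ∈ K, g.1.1 *ᵥ Φ.e = (ζ : F) • Φ.e := by
  constructor
  · rintro ⟨g, hg, rfl⟩
    exact ⟨g.1, hg, Φ.chi_spec hF g⟩
  · rintro ⟨g, hg, hge⟩
    refine ⟨⟨g, ζ, ζ.ne_zero, hge⟩, hg, Units.ext ?_⟩
    show hermForm 3 F q (g.1.1 *ᵥ Φ.e) Φ.f = ζ
    rw [hge, herm_smul_left, Φ.hyp.2.2, mul_one]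

theorem card_le_index_bound {G : Type*} [Group G] [Finite G] (K : Subgroup G) {N M : ℕ}
    (hN : 0 < N) (hG : Nat.card G = M * N) (h : K.index ≤ N) : M ≤ Nat.card K := by
  have h1 := Subgroup.index_mul_card K
  rw [hG] at h1
  refine Nat.le_of_mul_le_mul_right ?_ hN
  rw [← h1, mul_comm (Nat.card K)]
  exact Nat.mul_le_mul_right _ h

/-- A subgroup of index at most `q ^ 3` is transitive on isotropic lines. -/
theorem transOn_of_index (hF : Fintype.card F = q ^ 2) (K : Subgroup (SU 3 F q))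
    (h : K.index ≤ q ^ 3) : TransOn K fun _ => True := by
  obtain ⟨Φ⟩ := exists_frame3 (q := q) hF
  by_cases hall : ∀ v, IsoVec q v → ∃ X ∈ K, X ∈ QS v ∧ X ≠ 1
  · exact transOn_of_pgroups hF K _ (fun _ _ _ _ => trivial)
      fun v hv _ => hall v hv
  · push Not at hall
    obtain ⟨v, hv, hv1⟩ := hall
    obtain ⟨g, hg⟩ := exists_pt hF Φ hv
    obtain ⟨Ψ, hΨ⟩ := exists_frame_of_iso hF hv
    refine transOn_of_full hF Φ K g ?_
    obtain ⟨h1, -⟩ := orbit_card hF Φ K g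
    rw [hg, ← hΨ] at h1
    have hq1 := one_lt_q hF
    have hbot : K ⊓ QS Ψ.e = ⊥ := (Subgroup.eq_bot_iff_forall _).2 fun X hX =>
      hv1 X (Subgroup.mem_inf.1 hX).1 (hΨ ▸ (Subgroup.mem_inf.1 hX).2)
    have hd : Nat.card (torusPart hF Ψ K) ≤ q ^ 2 - 1 := by
      rw [← card_units_eq hF]
      exact Subgroup.card_le_card_group _
    have hpos : 0 < q ^ 2 - 1 := by
      have : 1 < q ^ 2 := Nat.one_lt_pow (by norm_num) hq1
      omega
    rw [card_inf_NS hF, hbot, Subgroup.card_bot, one_mul] at h1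
    have hK := card_le_index_bound K (N := q ^ 3) (M := (q ^ 3 + 1) * (q ^ 2 - 1))
      (pow_pos (by omega) 3) (by rw [Φ.card_SU3 hF]; ring) h
    refine Nat.le_of_mul_le_mul_right ?_ hpos
    refine hK.trans ?_
    rw [← h1]
    exact Nat.mul_le_mul_left _ hd

end Cfsg.Agent.Lib.MinIndexPSU3
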