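import Mathlib
import Cfsg.Agent.Lib.MinIndexPSU3.Points
import Cfsg.Agent.Lib.MinIndexPSU3.FiveModel

/-!
Lib/MinIndexPSU3/Five: a proper subgroup of `SU 3 F 5`, containing the centre, of order divisible by
`7560`, as the stabiliser of 105 lines.
-/

set_option autoImplicit false
set_option linter.unusedSectionVars false
set_option linter.style.haveILetI false

namespace Cfsg.Agent.Lib.MinIndexPSU3

open Matrix Cfsg.Agent.Lib.Unitary Cfsg.Agent.Lib.AutPSU

variable {F : Type*} [Field F] [Fintype F]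

local notation "V3" => Fin 3 → F

theorem charP_five (hF : Fintype.card F = 5 ^ 2) : CharP F 5 := by
  obtain ⟨p, k, hp, hchar, -, hk⟩ := q_eq_primePow hF
  have : p = 5 := ((Nat.prime_dvd_prime_iff_eq Nat.prime_five hp).1
    (Nat.prime_five.dvd_of_dvd_pow (dvd_of_eq hk))).symm
  exact this ▸ hchar

theorem five_eq_zero (hF : Fintype.card F = 5 ^ 2) : (5 : F) = 0 := by
  haveI := charP_five hF
  exact_mod_cast CharP.cast_eq_zero F 5

theorem exists_sqrt_two (hF : Fintype.card F = 5 ^ 2) : ∃ r : F, r * r = 2 ∧ r ^ 5 = -r := by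
  haveI := charP_five hF
  have h5 := five_eq_zero hF
  have h2 : (2 : F) ≠ 0 := fun h => one_ne_zero (α := F) (by linear_combination h5 - 2 * h)
  have hsq : IsSquare (2 : F) := by
    refine (FiniteField.isSquare_iff (fun h => ?_) h2).2 ?_
    · rw [ringChar.eq F 5] at h; omega
    · rw [hF]; norm_num; linear_combination 819 * h5
  obtain ⟨r, hr⟩ := hsq
  refine ⟨r, hr.symm, ?_⟩
  calc r ^ 5 = r * r * (r * r) * r := by ring
    _ = -r := by rw [← hr]; linear_combination r * h5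

theorem two_not_sq : ∀ z : ZMod 5, z * z ≠ 2 := by decide

variable (r : F)

/-- The field element of a code. -/
def dec (x : ℕ) : F := ((x / 5 : ℕ) : F) + ((x % 5 : ℕ) : F) * r

/-- The vector of a triple. -/
def decV (v : V5) : V3 := ![dec r v.1, dec r v.2.1, dec r v.2.2]

/-- The matrix of a triple of rows. -/
def decM (X : M5) : Matrix (Fin 3) (Fin 3) F := Matrix.of ![decV r X.1, decV r X.2.1, decV r X.2.2]

section

variable (h5 : (5 : F) = 0) (hr : r * r = 2)
include h5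

theorem cast_mod (n : ℕ) : ((n % 5 : ℕ) : F) = (n : F) := by
  conv_rhs => rw [← Nat.mod_add_div n 5]
  push_cast
  rw [h5]
  ring

theorem dec_enc (a b : ℕ) : dec r (encP a b) = (a : F) + (b : F) * r := by
  have h1 : encP a b / 5 = a % 5 := by unfold encP; omega
  have h2 : encP a b % 5 = b % 5 := by unfold encP; omega
  rw [dec, h1, h2, cast_mod h5, cast_mod h5]

theorem dec_addP (x y : ℕ) : dec r (addP x y) = dec r x + dec r y := by
  rw [addP, dec_enc r h5, dec, dec]
  push_cast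
  ring

theorem dec_negP (x : ℕ) : dec r (negP x) = -dec r x := by
  rw [negP, dec_enc r h5, dec, Nat.cast_sub (by omega), Nat.cast_sub (by omega), cast_mod h5]
  push_cast
  linear_combination (1 + r) * h5

include hr

theorem dec_mulP (x y : ℕ) : dec r (mulP x y) = dec r x * dec r y := by
  rw [mulP, dec_enc r h5, dec, dec]
  push_cast
  linear_combination -((x % 5 : ℕ) : F) * ((y % 5 : ℕ) : F) * hr

theorem dec_dotP (u v : V5) : dec r (dotP u v) = ∑ i, decV r u i * decV r v i := by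
  simp [dotP, dec_addP r h5, dec_mulP r h5 hr, decV, Fin.sum_univ_three]

theorem decV_mvP (X : M5) (v : V5) : decV r (mvP X v) = decM r X *ᵥ decV r v := by
  ext i
  rw [Matrix.mulVec, dotProduct]
  fin_cases i <;> simp [mvP, decV, decM, dec_dotP r h5 hr, Fin.sum_univ_three]

theorem decM_trP (X : M5) : decM r (trP X) = (decM r X)ᵀ := by
  ext i j
  fin_cases i <;> fin_cases j <;> simp [trP, decM, decV]

theorem decM_mmP (X Y : M5) : decM r (mmP X Y) = decM r X * decM r Y := by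
  ext i j
  rw [Matrix.mul_apply]
  fin_cases i <;> fin_cases j <;>
    simp [mmP, mvP, trP, decM, decV, dec_dotP r h5 hr, Fin.sum_univ_three] <;> ring

theorem dec_detP (X : M5) : dec r (detP X) = (decM r X).det := by
  rw [Matrix.det_fin_three]
  simp [detP, dec_addP r h5, dec_negP r h5, dec_mulP r h5 hr, decM, decV]
  ring

theorem dec_scP (c : P5) (v : V5) : decV r (scP c v) = dec r c • decV r v := by
  ext i
  fin_cases i <;> simp [scP, decV, dec_mulP r h5 hr]

end

theorem dec_zero : dec r 0 = 0 := by simp [dec]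

theorem dec_oneP : dec r oneP = 1 := by simp [dec, oneP]

theorem decM_idP : decM r idP = 1 := by
  ext i j
  fin_cases i <;> fin_cases j <;> simp [idP, decM, decV, dec, oneP]

theorem dec_inj (hF : Fintype.card F = 5 ^ 2) {r : F} (hr : r * r = 2) {x y : ℕ} (hx : x < 25)
    (hy : y < 25) (h : dec r x = dec r y) : x = y := by
  haveI := charP_five hF
  haveI : Fact (Nat.Prime 5) := ⟨Nat.prime_five⟩
  set c := ZMod.castHom (dvd_refl 5) F
  have hc : ∀ n : ℕ, (n : F) = c (n : ZMod 5) := fun n => (map_natCast c n).symm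
  simp only [dec, hc] at h
  have hb : ((x % 5 : ℕ) : ZMod 5) = ((y % 5 : ℕ) : ZMod 5) := by
    by_contra hne
    set s := (((y / 5 : ℕ) : ZMod 5) - ((x / 5 : ℕ) : ZMod 5)) /
      (((x % 5 : ℕ) : ZMod 5) - ((y % 5 : ℕ) : ZMod 5))
    have hrs : r = c s := by
      rw [map_div₀, map_sub, map_sub, eq_div_iff (sub_ne_zero.2 (fun e => hne (c.injective e)))]
      linear_combination h
    rw [hrs, ← map_mul, ← map_ofNat c 2] at hr
    exact two_not_sq s (c.injective hr)
  rw [hb] at h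
  have ha : ((x / 5 : ℕ) : ZMod 5) = ((y / 5 : ℕ) : ZMod 5) := c.injective (add_right_cancel h)
  rw [ZMod.natCast_eq_natCast_iff'] at ha hb
  omega

theorem decV_inj (hF : Fintype.card F = 5 ^ 2) {r : F} (hr : r * r = 2) {u v : V5}
    (hu : u.1 < 25 ∧ u.2.1 < 25 ∧ u.2.2 < 25) (hv : v.1 < 25 ∧ v.2.1 < 25 ∧ v.2.2 < 25)
    (h : decV r u = decV r v) : u = v := by
  have h0 := congrFun h 0
  have h1 := congrFun h 1
  have h2 := congrFun h 2
  simp [decV] at h0 h1 h2
  exact Prod.ext (dec_inj hF hr hu.1 hv.1 h0)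
    (Prod.ext (dec_inj hF hr hu.2.1 hv.2.1 h1) (dec_inj hF hr hu.2.2 hv.2.2 h2))

theorem decM_inj (hF : Fintype.card F = 5 ^ 2) {r : F} (hr : r * r = 2) {X Y : M5}
    (hX : InRange X) (hY : InRange Y) (h : decM r X = decM r Y) : X = Y := by
  obtain ⟨a1, a2, a3, a4, a5, a6, a7, a8, a9⟩ := hX
  obtain ⟨b1, b2, b3, b4, b5, b6, b7, b8, b9⟩ := hY
  have e0 : decV r X.1 = decV r Y.1 := congrFun h 0
  have e1 : decV r X.2.1 = decV r Y.2.1 := congrFun h 1
  have e2 : decV r X.2.2 = decV r Y.2.2 := congrFun h 2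
  exact Prod.ext (decV_inj hF hr ⟨a1, a2, a3⟩ ⟨b1, b2, b3⟩ e0)
    (Prod.ext (decV_inj hF hr ⟨a4, a5, a6⟩ ⟨b4, b5, b6⟩ e1)
      (decV_inj hF hr ⟨a7, a8, a9⟩ ⟨b7, b8, b9⟩ e2))

theorem dec_conjP (hF : Fintype.card F = 5 ^ 2) {r : F} (hr5 : r ^ 5 = -r) (x : ℕ) :
    dec r (conjP x) = dec r x ^ 5 := by
  haveI := charP_five hF
  haveI : Fact (Nat.Prime 5) := ⟨Nat.prime_five⟩
  have hn : ∀ n : ℕ, (n : F) ^ 5 = n := fun n => by
    rw [← map_natCast (ZMod.castHom (dvd_refl 5) F) n, ← map_pow, ZMod.pow_card]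
  rw [conjP, dec_enc r (five_eq_zero hF), dec, add_pow_q hF, mul_pow, hn, hn, hr5,
    Nat.cast_sub (by omega)]
  push_cast
  linear_combination r * five_eq_zero hF

theorem dec_hermP (hF : Fintype.card F = 5 ^ 2) {r : F} (hr : r * r = 2) (hr5 : r ^ 5 = -r)
    (u v : V5) : dec r (hermP u v) = hermForm 3 F 5 (decV r u) (decV r v) := by
  rw [hermP, dec_dotP r (five_eq_zero hF) hr]
  simp [hermForm, Fin.sum_univ_three, decV, dec_conjP hF hr5]

theorem exists_SU_of_isSU5 (hF : Fintype.card F = 5 ^ 2) {r : F} (hr : r * r = 2) (hr5 : r ^ 5 = -r)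
    {X : M5} (hX : IsSU5 X) : ∃ g : SU 3 F 5, g.1.1 = decM r X := by
  obtain ⟨hd, h00, h01, h02, h10, h11, h12, h20, h21, h22⟩ := hX
  have hdet : (decM r X).det = 1 := by
    rw [← dec_detP r (five_eq_zero hF) hr, hd, dec_oneP]
  refine ⟨⟨⟨decM r X, hdet⟩, ?_⟩, rfl⟩
  refine mem_SU_iff.2 fun u v => ?_
  have hf : Orthonormal' 5 ![decV r (trP X).1, decV r (trP X).2.1, decV r (trP X).2.2] := by
    have hh : ∀ a b, hermForm 3 F 5 (decV r a) (decV r b) = dec r (hermP a b) := fun a b =>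
      (dec_hermP hF hr hr5 a b).symm
    intro i j
    fin_cases i <;> fin_cases j <;>
      simp [hh, h00, h01, h02, h10, h11, h12, h20, h21, h22, dec_zero, dec_oneP]
  have h := preserving_of_orthonormal hF hf u v
  rw [show Matrix.of ![decV r (trP X).1, decV r (trP X).2.1, decV r (trP X).2.2] = decM r (trP X)
    from rfl, decM_trP r (five_eq_zero hF) hr, Matrix.transpose_transpose] at h
  exact h

/-- The lines. -/
def lineSet (r : F) : Set V3 := {x | ∃ u ∈ lines5, ∃ c : F, c ≠ 0 ∧ x = c • decV r u}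

/-- The stabiliser of the lines. -/
def lineStab (r : F) : Subgroup (SU 3 F 5) where
  carrier := {g | ∀ x, g.1.1 *ᵥ x ∈ lineSet r ↔ x ∈ lineSet r}
  one_mem' := fun x => by simp
  mul_mem' := fun {a b} ha hb x => by rw [Unitary.SU_mul_mulVec, ha, hb]
  inv_mem' := fun {a} ha x => by rw [← ha (a⁻¹.1.1 *ᵥ x), AutPSU.SU_mulVec_inv]

theorem mem_lineStab {r : F} {g : SU 3 F 5} (h : ∀ x ∈ lineSet r, g.1.1 *ᵥ x ∈ lineSet r) :
    g ∈ lineStab r := by
  intro x
  have hinj : Set.InjOn (fun x => g.1.1 *ᵥ x) (lineSet r) := fun a _ b _ hab => by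
    have := congrArg (fun v => g⁻¹.1.1 *ᵥ v) hab
    simpa only [Unitary.SU_inv_mulVec] using this
  have himg : (fun x => g.1.1 *ᵥ x) '' lineSet r = lineSet r := by
    refine Set.eq_of_subset_of_ncard_le (Set.image_subset_iff.2 h) ?_ (Set.toFinite _)
    rw [Set.InjOn.ncard_image hinj]
  refine ⟨fun hx => ?_, h x⟩
  rw [← himg] at hx
  obtain ⟨y, hy, hyx⟩ := hx
  have := congrArg (fun v => g⁻¹.1.1 *ᵥ v) hyx
  simp only [Unitary.SU_inv_mulVec] at this
  exact this ▸ hy

theorem gen_mem_lineStab (hF : Fintype.card F = 5 ^ 2) {r : F} (hr : r * r = 2) {b : Bool}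
    {g : SU 3 F 5} (hg : g.1.1 = decM r (gen5 b)) : g ∈ lineStab r := by
  refine mem_lineStab ?_
  rintro _ ⟨u, hu, c, hc, rfl⟩
  obtain ⟨hlen, hp⟩ := gen5_permutes b
  obtain ⟨i, hi, rfl⟩ := List.getElem_of_mem hu
  obtain ⟨hj, hc', hmv⟩ := hp (lines5[i], (images5 b)[i]'(hlen.symm ▸ hi))
    (List.mem_iff_getElem.2 ⟨i, by simpa [List.length_zip, hlen] using hi, by simp⟩)
  have h1 : g.1.1 *ᵥ decV r lines5[i] =
      dec r ((images5 b)[i]'(hlen.symm ▸ hi)).2 •
        decV r (lines5.getD ((images5 b)[i]'(hlen.symm ▸ hi)).1 (0, 0, 0)) := by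
    rw [hg, ← decV_mvP r (five_eq_zero hF) hr, hmv, dec_scP r (five_eq_zero hF) hr]
  set j := ((images5 b)[i]'(hlen.symm ▸ hi)).1
  set c' := dec r ((images5 b)[i]'(hlen.symm ▸ hi)).2
  have hmem : lines5.getD j (0, 0, 0) ∈ lines5 := by
    rw [List.getD_eq_getElem _ _ hj]
    exact List.getElem_mem hj
  refine ⟨_, hmem, c * c', mul_ne_zero hc fun h0 => ?_, by rw [Matrix.mulVec_smul, h1, smul_smul]⟩
  rw [h0, zero_smul] at h1
  have h2 := congrArg (fun v => g⁻¹.1.1 *ᵥ v) h1
  simp only [Unitary.SU_inv_mulVec, Matrix.mulVec_zero] at h2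
  have hr0 := move5_range _ hu
  have h3 := decV_inj hF hr (v := (0, 0, 0)) hr0 ⟨by norm_num, by norm_num, by norm_num⟩
    (h2.trans (by ext k; fin_cases k <;> simp [decV, dec_zero]))
  exact (by decide +kernel : ∀ u ∈ lines5, u ≠ (0, 0, 0)) _ hu h3

theorem seven_five_sixty_dvd (hF : Fintype.card F = 5 ^ 2) :
    ∃ K : Subgroup (SU 3 F 5), K ≠ ⊤ ∧ Subgroup.center (SU 3 F 5) ≤ K ∧ 7560 ∣ Nat.card K := by
  classical
  obtain ⟨r, hr, hr5⟩ := exists_sqrt_two hF
  have h5 := five_eq_zero hF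
  refine ⟨lineStab r, fun htop => ?_, fun z hz => ?_, ?_⟩
  · obtain ⟨s, hs⟩ := exists_SU_of_isSU5 hF hr hr5 move5_isSU
    have hmem : s ∈ lineStab r := htop ▸ Subgroup.mem_top s
    obtain ⟨u, hu, c, hc, huc⟩ := (hmem (decV r moved5)).2
      ⟨moved5, moved5_mem, 1, one_ne_zero, by rw [one_smul]⟩
    rw [hs, ← decV_mvP r h5 hr] at huc
    have e0 := congrFun huc 0
    have e1 := congrFun huc 1
    have e2 := congrFun huc 2
    simp [decV] at e0 e1 e2
    have hlt : ∀ a b, mulP a b < 25 := fun a b => by unfold mulP encP; omega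
    rcases moved5_out u hu with h | h | h <;> refine h (dec_inj hF hr (hlt _ _) (hlt _ _) ?_) <;>
      rw [dec_mulP r h5 hr, dec_mulP r h5 hr]
    · rw [e0, e1]; ring
    · rw [e0, e2]; ring
    · rw [e1, e2]; ring
  · obtain ⟨l, hl⟩ := (mem_center_SU_iff hF (by norm_num) z).1 hz
    refine mem_lineStab ?_
    rintro _ ⟨u, hu, c, hc, rfl⟩
    refine ⟨u, hu, l * c, mul_ne_zero (fun h0 => ?_) hc, by rw [hl, smul_smul]⟩
    have h1 := Unitary.SU_inv_mulVec z (Pi.single (0 : Fin 3) (1 : F))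
    rw [hl, h0, zero_smul, Matrix.mulVec_zero] at h1
    simpa using congrFun h1 0
  choose gen hgen using fun b => exists_SU_of_isSU5 hF hr hr5 (gen5_isSU b)
  have hword : ∀ w : List Bool, ∃ g ∈ lineStab r, g.1.1 = decM r (evalW w) := by
    intro w
    induction w with
    | nil => exact ⟨1, one_mem _, by rw [evalW, decM_idP]; rfl⟩
    | cons b w ih =>
      obtain ⟨g, hg, hge⟩ := ih
      refine ⟨gen b * g, mul_mem (gen_mem_lineStab hF hr (hgen b)) hg, ?_⟩
      rw [evalW, decM_mmP r h5 hr, ← hgen b, ← hge]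
      rfl
  have key : ∀ (L : List (M5 × List Bool)) (n : ℕ), GoodList L n →
      n ∣ Nat.card (lineStab r) := by
    rintro L n ⟨hn, hnd, hw, h1, hrng, hmul⟩
    let S : Set (SU 3 F 5) := {g | ∃ p ∈ L, g.1.1 = decM r p.1}
    have hSK : S ⊆ lineStab r := by
      rintro g ⟨p, hp, hgp⟩
      obtain ⟨g', hg', hge⟩ := hword p.2
      rw [hw p hp] at hge
      rwa [show g = g' from Subtype.ext (Subtype.ext (hgp.trans hge.symm))]
    let H : Submonoid (SU 3 F 5) :=
      { carrier := S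
        one_mem' := by
          obtain ⟨p, hp, hp1⟩ := List.mem_map.1 h1
          exact ⟨p, hp, by rw [hp1, decM_idP]; rfl⟩
        mul_mem' := by
          rintro a b ⟨p, hp, ha⟩ ⟨p', hp', hb⟩
          obtain ⟨p'', hp'', hpp⟩ := List.mem_map.1 (hmul p hp p' hp')
          refine ⟨p'', hp'', ?_⟩
          rw [hpp, decM_mmP r h5 hr, ← ha, ← hb]
          rfl }
    let H' : Subgroup (SU 3 F 5) :=
      { H with
        inv_mem' := fun {g} hg => by
          have : g⁻¹ = g ^ (orderOf g - 1) := by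
            refine inv_eq_of_mul_eq_one_right ?_
            rw [← pow_succ', Nat.sub_add_cancel (orderOf_pos g), pow_orderOf_eq_one]
          show g⁻¹ ∈ H
          rw [this]
          exact H.pow_mem hg _ }
    have hcard : Nat.card H' = n := by
      have hex : ∀ p : {p // p ∈ L}, ∃ g : SU 3 F 5, g.1.1 = decM r p.1.1 := fun p => by
        obtain ⟨g, -, hge⟩ := hword p.1.2
        exact ⟨g, hge.trans (by rw [hw p.1 p.2])⟩
      choose el hel using hex
      have hLnd : L.Nodup := List.Nodup.of_map _ hnd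
      have hLc : Nat.card {p // p ∈ L} = n := by
        rw [Nat.card_congr (hLnd.getEquiv L).symm, Nat.card_fin, hn]
      rw [← hLc]
      refine (Nat.card_eq_of_bijective (fun p => (⟨el p, p.1, p.2, hel p⟩ : H')) ⟨?_, ?_⟩).symm
      · intro p p' hpp
        have : decM r p.1.1 = decM r p'.1.1 := by
          rw [← hel p, ← hel p', show el p = el p' from congrArg Subtype.val hpp]
        exact Subtype.ext (List.inj_on_of_nodup_map hnd p.2 p'.2
          (decM_inj hF hr (hrng _ p.2) (hrng _ p'.2) this))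
      · rintro ⟨g, p, hp, hgp⟩
        exact ⟨⟨p, hp⟩, Subtype.ext (Subtype.ext (Subtype.ext ((hel ⟨p, hp⟩).trans hgp.symm)))⟩
    rw [← hcard]
    exact Subgroup.card_dvd_of_le (fun g hg => hSK hg)
  rw [show 7560 = 7 * 5 * 8 * 27 by norm_num]
  exact Nat.Coprime.mul_dvd_of_dvd_of_dvd (by norm_num)
    (Nat.Coprime.mul_dvd_of_dvd_of_dvd (by norm_num)
      (Nat.Coprime.mul_dvd_of_dvd_of_dvd (by norm_num) (key _ _ good_7) (key _ _ good_5))
      (key _ _ good_8)) (key _ _ good_27)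

end Cfsg.Agent.Lib.MinIndexPSU3
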