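import Mathlib
import Cfsg.Agent.Lib.MinIndexPSU3.Points

/-!
Lib/MinIndexPSU3/Plane: the stabiliser of the unit vector of a frame acting on the orthogonal plane.
-/

set_option autoImplicit false
set_option linter.unusedSectionVars false
set_option linter.style.haveILetI false

namespace Cfsg.Agent.Lib.MinIndexPSU3

open Matrix Module MulAction Cfsg.Agent.Lib.Unitary Cfsg.Agent.Lib.AutPSU
  Cfsg.Agent.Lib.MinIndexPSU

variable {F : Type*} [Field F] [Fintype F] {q : ℕ}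

local notation "V3" => Fin 3 → F

namespace Frame

variable (Φ : Frame F q)

/-- The matrix on the plane of `e` and `f`. -/
def mA (X : SU 3 F q) : Matrix (Fin 2) (Fin 2) F :=
  !![hermForm 3 F q (X.1.1 *ᵥ Φ.e) Φ.f, hermForm 3 F q (X.1.1 *ᵥ Φ.f) Φ.f;
     hermForm 3 F q (X.1.1 *ᵥ Φ.e) Φ.e, hermForm 3 F q (X.1.1 *ᵥ Φ.f) Φ.e]

/-- The scalar on `w`. -/
def lam (X : SU 3 F q) : F := hermForm 3 F q (X.1.1 *ᵥ Φ.w) Φ.w

theorem lam_spec (hF : Fintype.card F = q ^ 2) {X : SU 3 F q} (hX : X ∈ NS Φ.w) :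
    X.1.1 *ᵥ Φ.w = Φ.lam X • Φ.w ∧ Φ.lam X * Φ.lam X ^ q = 1 := by
  obtain ⟨a, ha, hXw⟩ := hX
  have hl : Φ.lam X = a := by rw [lam, hXw, herm_smul_left, Φ.ww, mul_one]
  rw [hl]
  refine ⟨hXw, ?_⟩
  have := SU_herm X Φ.w Φ.w
  rwa [hXw, herm_smul_left, herm_smul_right, Φ.ww, mul_one] at this

theorem plane_perp (hF : Fintype.card F = q ^ 2) {X : SU 3 F q} (hX : X ∈ NS Φ.w) {v : V3}
    (hv : hermForm 3 F q v Φ.w = 0) : hermForm 3 F q (X.1.1 *ᵥ v) Φ.w = 0 := by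
  obtain ⟨a, ha, hXw⟩ := hX
  have := SU_herm X v Φ.w
  rw [hXw, herm_smul_right, hv] at this
  exact (mul_eq_zero.1 this).resolve_left (pow_ne_zero q ha)

theorem image_ef (hF : Fintype.card F = q ^ 2) {X : SU 3 F q} (hX : X ∈ NS Φ.w) :
    X.1.1 *ᵥ Φ.e = Φ.mA X 0 0 • Φ.e + Φ.mA X 1 0 • Φ.f ∧
      X.1.1 *ᵥ Φ.f = Φ.mA X 0 1 • Φ.e + Φ.mA X 1 1 • Φ.f := by
  constructor
  · conv_lhs => rw [Φ.coord hF (X.1.1 *ᵥ Φ.e), Φ.plane_perp hF hX (Φ.ew hF), zero_smul, add_zero]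
    simp [mA]
  · conv_lhs => rw [Φ.coord hF (X.1.1 *ᵥ Φ.f), Φ.plane_perp hF hX (Φ.fw hF), zero_smul, add_zero]
    simp [mA]

theorem mA_mul (hF : Fintype.card F = q ^ 2) (X : SU 3 F q) {Y : SU 3 F q} (hY : Y ∈ NS Φ.w) :
    Φ.mA (X * Y) = Φ.mA X * Φ.mA Y := by
  obtain ⟨h1, h2⟩ := Φ.image_ef hF hY
  have e1 : (X * Y).1.1 *ᵥ Φ.e = Φ.mA Y 0 0 • (X.1.1 *ᵥ Φ.e) + Φ.mA Y 1 0 • (X.1.1 *ᵥ Φ.f) := by
    rw [Unitary.SU_mul_mulVec, h1, Matrix.mulVec_add, Matrix.mulVec_smul, Matrix.mulVec_smul]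
  have e2 : (X * Y).1.1 *ᵥ Φ.f = Φ.mA Y 0 1 • (X.1.1 *ᵥ Φ.e) + Φ.mA Y 1 1 • (X.1.1 *ᵥ Φ.f) := by
    rw [Unitary.SU_mul_mulVec, h2, Matrix.mulVec_add, Matrix.mulVec_smul, Matrix.mulVec_smul]
  rw [mA, e1, e2]
  ext i j
  fin_cases i <;> fin_cases j <;>
    simp [mA, Matrix.mul_apply, Fin.sum_univ_two, herm_add_left, herm_smul_left] <;> ring

theorem mA_one (hF : Fintype.card F = q ^ 2) : Φ.mA (1 : SU 3 F q) = 1 := by
  ext i j
  fin_cases i <;> fin_cases j <;>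
    simp [mA, Φ.hyp.1, Φ.hyp.2.1, Φ.hyp.2.2, Φ.hyp.symm' hF]

theorem mA_det (hF : Fintype.card F = q ^ 2) {X : SU 3 F q} (hX : X ∈ NS Φ.w) :
    (Φ.mA X).det * Φ.lam X = 1 := by
  obtain ⟨h1, h2⟩ := Φ.image_ef hF hX
  obtain ⟨h3, -⟩ := Φ.lam_spec hF hX
  let P : Matrix (Fin 3) (Fin 3) F := Matrix.of fun i j => ![Φ.e, Φ.f, Φ.w] j i
  have hP : ∀ x : Fin 3 → F, P *ᵥ x = x 0 • Φ.e + x 1 • Φ.f + x 2 • Φ.w := fun x => by
    ext i
    simp [P, Matrix.mulVec, dotProduct, Fin.sum_univ_three]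
    ring
  have hPdet : P.det ≠ 0 := by
    intro h0
    obtain ⟨x, hx, hx0⟩ := Matrix.exists_mulVec_eq_zero_iff.2 h0
    rw [hP] at hx0
    have e0 := congrArg (fun v => hermForm 3 F q v Φ.f) hx0
    have e1 := congrArg (fun v => hermForm 3 F q v Φ.e) hx0
    have e2 := congrArg (fun v => hermForm 3 F q v Φ.w) hx0
    simp [herm_add_left, herm_smul_left, herm_zero_left, Φ.hyp.1, Φ.hyp.2.1, Φ.hyp.2.2,
      Φ.hyp.symm' hF, Φ.we, Φ.wf, Φ.ww, Φ.ew hF, Φ.fw hF] at e0 e1 e2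
    exact hx (funext fun i => by fin_cases i <;> simp [e0, e1, e2])
  let M : Matrix (Fin 3) (Fin 3) F :=
    !![Φ.mA X 0 0, Φ.mA X 0 1, 0; Φ.mA X 1 0, Φ.mA X 1 1, 0; 0, 0, Φ.lam X]
  have hXP : X.1.1 * P = P * M := by
    refine Matrix.ext_of_mulVec_single fun k => ?_
    rw [← Matrix.mulVec_mulVec, ← Matrix.mulVec_mulVec, hP, hP, Matrix.mulVec_add,
      Matrix.mulVec_add, Matrix.mulVec_smul, Matrix.mulVec_smul, Matrix.mulVec_smul, h1, h2, h3]
    fin_cases k <;> simp [M, Pi.single_apply]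
  have hd := congrArg Matrix.det hXP
  rw [Matrix.det_mul, Matrix.det_mul, X.1.2, one_mul] at hd
  have hM : M.det = (Φ.mA X).det * Φ.lam X := by
    simp [M, Matrix.det_fin_three, Matrix.det_fin_two]
    ring
  rw [← hM]
  exact mul_left_cancel₀ hPdet (by rw [mul_one]; exact hd.symm)

/-- The restriction to the plane of the stabiliser of `w`, as a homomorphism to `SL(2)`. -/
def rA (hF : Fintype.card F = q ^ 2) :
    PS (q := q) Φ.w →* Matrix.SpecialLinearGroup (Fin 2) F :=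
  MonoidHom.mk' (fun X => ⟨Φ.mA X.1, by
      have h := Φ.mA_det hF (X := X.1) (PS_le_NS _ X.2)
      rw [show Φ.lam X.1 = 1 by rw [lam, show X.1.1.1 *ᵥ Φ.w = Φ.w from X.2, Φ.ww], mul_one] at h
      exact h⟩)
    fun X Y => Subtype.ext (Φ.mA_mul hF X.1 (PS_le_NS _ Y.2))

/-- Isotropic lines of the plane. -/
theorem chord_cases (hF : Fintype.card F = q ^ 2) {v : V3} (hv : IsoVec q v)
    (hvw : hermForm 3 F q v Φ.w = 0) :
    (∃ c : F, c ≠ 0 ∧ v = c • Φ.e) ∨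
      ∃ c t : F, c ≠ 0 ∧ t + t ^ q = 0 ∧ v = c • (Φ.f + t • Φ.e) := by
  have hv' := Φ.coord hF v
  rw [hvw, zero_smul, add_zero] at hv'
  set x := hermForm 3 F q v Φ.f
  set y := hermForm 3 F q v Φ.e
  by_cases hy : y = 0
  · left
    rw [hy, zero_smul, add_zero] at hv'
    exact ⟨x, fun h => hv.1 (by rw [hv', h, zero_smul]), hv'⟩
  · right
    refine ⟨y, x / y, hy, ?_, ?_⟩
    · have := hv.2
      rw [hv'] at this
      simp only [herm_add_left, herm_add_right _ _ _ hF, herm_smul_left, herm_smul_right,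
        Φ.hyp.1, Φ.hyp.2.1, Φ.hyp.2.2, Φ.hyp.symm' hF, mul_zero, mul_one, zero_add, add_zero]
        at this
      have hyq : y ^ q ≠ 0 := pow_ne_zero q hy
      rw [div_pow]
      field_simp
      linear_combination this
    · rw [hv', smul_add, smul_smul, mul_div_cancel₀ _ hy, add_comm]

/-- The plane holds `q + 1` isotropic lines. -/
theorem card_chord_orbit (hF : Fintype.card F = q ^ 2) {M : Subgroup (SU 3 F q)}
    (hM : M ≤ NS Φ.w) (ht : TransOn M fun v => hermForm 3 F q v Φ.w = 0) :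
    Nat.card (orbit M (QuotientGroup.mk 1 : Pt Φ)) = q + 1 := by
  classical
  have hg : ∀ t : {t : F // t + t ^ q = 0}, ∃ g : SU 3 F q, g.1.1 *ᵥ Φ.e = Φ.f + t.1 • Φ.e :=
    fun t => exists_pt hF Φ ⟨fun h0 => by
      have := congrArg (fun v => hermForm 3 F q v Φ.e) h0
      simp [herm_add_left, herm_smul_left, herm_zero_left, Φ.hyp.1, Φ.hyp.symm' hF] at this, by
      have ht := t.2
      simp only [herm_add_left, herm_add_right _ _ _ hF, herm_smul_left, herm_smul_right,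
        Φ.hyp.1, Φ.hyp.2.1, Φ.hyp.2.2, Φ.hyp.symm' hF, mul_zero, mul_one, zero_add, add_zero]
      linear_combination ht⟩
  choose g hg using hg
  let φ : Option {t : F // t + t ^ q = 0} → Pt Φ := fun o =>
    o.elim (QuotientGroup.mk 1) fun t => QuotientGroup.mk (g t)
  have hne : ∀ t, (QuotientGroup.mk 1 : Pt Φ) ≠ QuotientGroup.mk (g t) := fun t h => by
    obtain ⟨c, -, hc⟩ := (pt_eq_iff Φ _ _).1 h
    rw [hg] at hc
    have := congrArg (fun v => hermForm 3 F q v Φ.e) hc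
    simp [herm_add_left, herm_smul_left, Φ.hyp.1, Φ.hyp.symm' hF] at this
  have hinj : Function.Injective φ := by
    rintro (_ | s) (_ | t) h
    · rfl
    · exact absurd h (hne t)
    · exact absurd h.symm (hne s)
    · obtain ⟨c, -, hc⟩ := (pt_eq_iff Φ _ _).1 h
      rw [hg, hg] at hc
      have h1 := congrArg (fun v => hermForm 3 F q v Φ.e) hc
      have h2 := congrArg (fun v => hermForm 3 F q v Φ.f) hc
      simp [herm_add_left, herm_smul_left, Φ.hyp.1, Φ.hyp.2.1, Φ.hyp.2.2, Φ.hyp.symm' hF] at h1 h2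
      rw [← h1, one_mul] at h2
      exact congrArg some (Subtype.ext h2.symm)
  have hrange : Set.range φ = orbit M (QuotientGroup.mk 1 : Pt Φ) := by
    refine Set.Subset.antisymm ?_ ?_
    · rintro _ ⟨o, rfl⟩
      rcases o with _ | t
      · exact mem_orbit_self _
      · obtain ⟨m, hm, c, hc, hmc⟩ := ht Φ.e ((g t).1.1 *ᵥ Φ.e) (isoVec_e Φ)
          (IsoVec.map (isoVec_e Φ) _) (Φ.ew hF)
          (by show hermForm 3 F q _ _ = 0; rw [hg, herm_add_left, herm_smul_left, Φ.fw hF, Φ.ew hF, mul_zero, add_zero])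
        refine ⟨⟨m, hm⟩, ?_⟩
        show (QuotientGroup.mk (m * 1) : Pt Φ) = QuotientGroup.mk (g t)
        exact (pt_eq_iff Φ _ _).2 ⟨c⁻¹, inv_ne_zero hc, by
          rw [mul_one, hmc, smul_smul, inv_mul_cancel₀ hc, one_smul]⟩
    · rintro _ ⟨m, rfl⟩
      rcases Φ.chord_cases hF (IsoVec.map (isoVec_e Φ) m.1)
        (Φ.plane_perp hF (hM m.2) (Φ.ew hF)) with ⟨c, hc, h⟩ | ⟨c, t, hc, ht', h⟩
      · refine ⟨none, ?_⟩
        show (QuotientGroup.mk 1 : Pt Φ) = QuotientGroup.mk (m.1 * 1)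
        exact (pt_eq_iff Φ _ _).2 ⟨c, hc, by rw [mul_one, h]; simp⟩
      · refine ⟨some ⟨t, ht'⟩, ?_⟩
        show (QuotientGroup.mk (g _) : Pt Φ) = QuotientGroup.mk (m.1 * 1)
        exact (pt_eq_iff Φ _ _).2 ⟨c, hc, by rw [mul_one, h, hg]⟩
  rw [← hrange, Nat.card_range_of_injective hinj, Finite.card_option, card_trace_zero hF]

theorem card_chord (hF : Fintype.card F = q ^ 2) {M : Subgroup (SU 3 F q)}
    (hM : M ≤ NS Φ.w) (ht : TransOn M fun v => hermForm 3 F q v Φ.w = 0) :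
    Nat.card M = (q + 1) * Nat.card (M ⊓ NS Φ.e : Subgroup (SU 3 F q)) := by
  have h := (orbit_card hF Φ M 1).1
  rw [Φ.card_chord_orbit hF hM ht] at h
  simpa using h.symm

end Frame

end Cfsg.Agent.Lib.MinIndexPSU3
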