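import Mathlib
import Cfsg.Agent.Lib.MinIndexPSU3.Plane
import Cfsg.Agent.Lib.DicksonFull.Action

/-!
Lib/MinIndexPSU3/Chord: the transvection part of a transitive subgroup has order at most three.
-/

set_option autoImplicit false
set_option linter.unusedSectionVars false
set_option linter.style.haveILetI false
set_option maxHeartbeats 1600000

namespace Cfsg.Agent.Lib.MinIndexPSU3

open Matrix Module MulAction Cfsg.Agent.Lib.Unitary Cfsg.Agent.Lib.AutPSU
  Cfsg.Agent.Lib.MinIndexPSU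

variable {F : Type*} [Field F] [Fintype F] {q : ℕ}

local notation "V3" => Fin 3 → F

theorem inf_RS_conj {K : Subgroup (SU 3 F q)} {u v : V3} {k : SU 3 F q} {c : F} (hk : k ∈ K)
    (hc : c ≠ 0) (hkc : k.1.1 *ᵥ u = c • v) {X : SU 3 F q} (hX : X ∈ K ⊓ RS u) :
    k * X * k⁻¹ ∈ K ⊓ RS v := by
  obtain ⟨hXK, hXR⟩ := Subgroup.mem_inf.1 hX
  refine Subgroup.mem_inf.2 ⟨K.mul_mem (K.mul_mem hk hXK) (K.inv_mem hk), ?_⟩
  have := RS_conj k hXR
  rwa [hkc, RS_smul hc] at this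

theorem card_tvPart (hF : Fintype.card F = q ^ 2) (Φ : Frame F q) (K : Subgroup (SU 3 F q)) :
    Nat.card (tvPart hF Φ.hyp K) = Nat.card (K ⊓ RS Φ.e : Subgroup (SU 3 F q)) := by
  refine (Nat.card_eq_of_bijective
    (fun X : (K ⊓ RS Φ.e : Subgroup (SU 3 F q)) =>
      (⟨tc Φ.f X.1, X.1, X.2, rfl⟩ : tvPart hF Φ.hyp K)) ⟨?_, ?_⟩).symm
  · intro X Y hXY
    have hXY' : tc Φ.f X.1 = tc Φ.f Y.1 := congrArg Subtype.val hXY
    exact Subtype.ext (suToGU_injective ((exists_tc hF Φ.hyp (Subgroup.mem_inf.1 X.2).2).2.unique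
      (by rw [hXY']; exact (exists_tc hF Φ.hyp (Subgroup.mem_inf.1 Y.2).2).2)))
  · rintro ⟨_, X, hX, rfl⟩
    exact ⟨⟨X, hX⟩, rfl⟩

theorem tv_pow_eq_one (hF : Fintype.card F = q ^ 2) (Φ : Frame F q) {p : ℕ} [CharP F p]
    {X : SU 3 F q} (hX : X ∈ RS Φ.e) : X ^ p = 1 := by
  have hk : ∀ k : ℕ, tc Φ.f (X ^ k) = (k : F) * tc Φ.f X := by
    intro k
    induction k with
    | zero => simp [tc_one hF Φ.hyp]
    | succ k ih =>
      rw [pow_succ, tc_mul hF Φ.hyp ((RS Φ.e).pow_mem hX k) hX, ih, Nat.cast_succ]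
      ring
  have h0 := hk p
  rw [CharP.cast_eq_zero, zero_mul] at h0
  have h1 := (exists_tc hF Φ.hyp ((RS Φ.e).pow_mem hX p)).2
  rw [h0] at h1
  exact suToGU_injective (GU_ext fun x => by rw [h1 x, map_one]; simp)

theorem inf_QS_PS (hF : Fintype.card F = q ^ 2) (Φ : Frame F q) (K : Subgroup (SU 3 F q)) :
    (K ⊓ PS Φ.w) ⊓ QS Φ.e = K ⊓ RS Φ.e := by
  refine le_antisymm (fun X hX => ?_) fun X hX => ?_
  · obtain ⟨hX1, hXQ⟩ := Subgroup.mem_inf.1 hX
    obtain ⟨hXK, hXw⟩ := Subgroup.mem_inf.1 hX1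
    refine Subgroup.mem_inf.2 ⟨hXK, Φ.mem_RS_of_al hF hXQ ?_⟩
    have h1 := SU_herm X Φ.f Φ.w
    rw [show X.1.1 *ᵥ Φ.w = Φ.w from hXw, Φ.fw hF] at h1
    exact h1
  · obtain ⟨hXK, hXR⟩ := Subgroup.mem_inf.1 hX
    exact Subgroup.mem_inf.2
      ⟨Subgroup.mem_inf.2 ⟨hXK, hXR Φ.w Φ.we⟩, RS_le_QS Φ.hyp.1 hXR⟩

theorem pow_dvd_cancel {p k a b : ℕ} (hp : p.Prime) (hb : ¬ p ∣ b) (h : p ^ k ∣ a * b) :
    p ^ k ∣ a :=
  ((hp.coprime_iff_not_dvd.2 hb).pow_left k).dvd_of_dvd_mul_right h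

/-- The transvection part at a point. -/
theorem chord_bound (hF : Fintype.card F = q ^ 2) (hq : 3 ≤ q) (Φ : Frame F q)
    {K : Subgroup (SU 3 F q)} (hK : TransOn K fun _ => True) (hnot : ¬ RS Φ.e ≤ K)
    (hB : Nat.card (tvPart hF Φ.hyp K) ≠ 1) :
    (Even q ∧ Nat.card (tvPart hF Φ.hyp K) = 2) ∨ (q = 9 ∧ Nat.card (tvPart hF Φ.hyp K) = 3) := by
  classical
  obtain ⟨p, f0, hp, hchar, hf0, hqp⟩ := q_eq_primePow hF
  haveI := Fact.mk hp
  haveI := hchar
  set B := tvPart hF Φ.hyp K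
  -- the transvection part is a proper subgroup of the trace zero scalars
  let S : AddSubgroup F :=
    { carrier := {x | x + x ^ q = 0}
      add_mem' := fun {x y} hx hy => show x + y + (x + y) ^ q = 0 by
        have hx' : x + x ^ q = 0 := hx
        have hy' : y + y ^ q = 0 := hy
        rw [add_pow_q hF]
        linear_combination hx' + hy'
      zero_mem' := show (0 : F) + 0 ^ q = 0 by rw [zero_pow_q hF, add_zero]
      neg_mem' := fun {x} hx => show -x + (-x) ^ q = 0 by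
        have hx' : x + x ^ q = 0 := hx
        rw [neg_pow_q hF]; linear_combination -hx' }
  have hle : B ≤ S := fun b hb => tvPart_trace hF Φ.hyp K hb
  have hS : Nat.card S = q := card_trace_zero hF
  obtain ⟨m0, hm0⟩ : Nat.card B ∣ q := (AddSubgroup.card_dvd_of_le hle).trans (dvd_of_eq hS)
  have hlt : Nat.card B ≠ q := by
    intro heq
    obtain ⟨c, hc, hcB⟩ := exists_not_mem_tvPart hF Φ.hyp hnot
    have hBS : B = S := by
      refine SetLike.coe_injective (Set.eq_of_subset_of_ncard_le hle ?_ (Set.toFinite _))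
      rw [← Nat.card_coe_set_eq, ← Nat.card_coe_set_eq]
      exact (hS.trans heq.symm).le
    exact hcB (by show c ∈ B; rw [hBS]; exact hc)
  obtain ⟨k0, hk0, hk0'⟩ : ∃ k0 ≤ f0, Nat.card B = p ^ k0 :=
    (Nat.dvd_prime_pow hp).1 (hqp ▸ Dvd.intro _ hm0.symm)
  have hk0pos : 0 < k0 := Nat.pos_of_ne_zero fun h => hB (by rw [hk0', h, pow_zero])
  -- a transvection at each point
  have hRS : ∀ v, IsoVec q v → ∃ X ∈ K ⊓ RS v, X ≠ 1 := by
    intro v hv
    obtain ⟨k, hk, c, hc, hkc⟩ := hK Φ.e v (isoVec_e Φ) hv trivial trivial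
    have hne : K ⊓ RS Φ.e ≠ ⊥ := fun h => hB (by
      rw [card_tvPart hF Φ K, h, Subgroup.card_bot])
    obtain ⟨X, hX, hX1⟩ := (Subgroup.ne_bot_iff_exists_ne_one (H := K ⊓ RS Φ.e)).1 hne |>
      fun ⟨X, hX⟩ => (⟨X.1, X.2, fun h => hX (Subtype.ext h)⟩ :
        ∃ X ∈ K ⊓ RS Φ.e, X ≠ 1)
    exact ⟨k * X * k⁻¹, inf_RS_conj hk hc hkc hX, fun h => hX1 (by simpa using h)⟩
  set M : Subgroup (SU 3 F q) := K ⊓ PS Φ.w with hMdef
  have hMle : M ≤ NS Φ.w := inf_le_right.trans (PS_le_NS _)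
  have ht : TransOn M fun v => hermForm 3 F q v Φ.w = 0 :=
    transOn_of_pgroups hF M _ (fun k hk v hv => Φ.plane_perp hF (hMle hk) hv) fun v hv hvw => by
      obtain ⟨X, hX, hX1⟩ := hRS v hv
      obtain ⟨hXK, hXR⟩ := Subgroup.mem_inf.1 hX
      exact ⟨X, Subgroup.mem_inf.2 ⟨hXK, hXR Φ.w (herm_eq_zero_symm hF hvw)⟩,
        RS_le_QS hv.2 hXR, hX1⟩
  have hcardM := Φ.card_chord hF hMle ht
  rw [card_inf_NS hF, hMdef, inf_QS_PS hF Φ K, ← card_tvPart hF Φ K] at hcardM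
  set d0 := Nat.card (torusPart hF Φ M)
  have hd0 : d0 ∣ q - 1 := by
    refine card_dvd_of_pow_eq_one fun ζ hζ => ?_
    obtain ⟨g, hg, hge⟩ := (mem_torusPart hF Φ).1 hζ
    have h1 := Φ.w_image hF hge
    rw [show g.1.1 *ᵥ Φ.w = Φ.w from (Subgroup.mem_inf.1 hg).2, proj_of_mem hF (Φ.w_mem hF)] at h1
    have h2 : (1 : F) = (ζ : F) ^ q * (ζ : F)⁻¹ := by
      have := congrArg (fun v => hermForm 3 F q v Φ.w) h1
      simpa [herm_smul_left, Φ.ww] using this
    ext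
    rw [Units.val_pow_eq_pow_val, Units.val_one]
    apply mul_right_cancel₀ ζ.ne_zero
    rw [pow_sub_one_mul (show q ≠ 0 by omega), one_mul]
    field_simp at h2
    exact h2.symm
  -- the image in `PSL(2, F)`
  let ψ : M →* Matrix.ProjectiveSpecialLinearGroup (Fin 2) F :=
    (QuotientGroup.mk' _).comp ((Φ.rA hF).comp (Subgroup.inclusion inf_le_right))
  set G := ψ.range
  have hsplit : Nat.card M = Nat.card G * Nat.card ψ.ker := by
    rw [Subgroup.card_eq_card_quotient_mul_card_subgroup ψ.ker,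
      Nat.card_congr (QuotientGroup.quotientKerEquivRange ψ).toEquiv]
  have hker : ∀ x ∈ ψ.ker, ∃ a : F, Φ.mA x.1 = a • 1 ∧ a ^ 2 = 1 := by
    intro x hx
    have h1 := (QuotientGroup.eq_one_iff _).1 (MonoidHom.mem_ker.1 hx)
    obtain ⟨a, ha⟩ := (DicksonFull.mem_center_iff_smul _).1 h1
    refine ⟨a, ha, ?_⟩
    have hd := ((Φ.rA hF) (Subgroup.inclusion (inf_le_right : M ≤ PS Φ.w) x)).2
    have ha' : ((Φ.rA hF) (Subgroup.inclusion (inf_le_right : M ≤ PS Φ.w) x)).1 = a • 1 := ha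
    rw [ha'] at hd
    simpa [sq] using hd
  have hc2 : Nat.card ψ.ker ∣ Nat.gcd (q ^ 2 - 1) 2 := by
    rw [← card_units_eq hF, ← IsCyclic.card_powMonoidHom_ker]
    have hxe : ∀ x : ψ.ker, ∃ a : Fˣ, (a : F) ^ 2 = 1 ∧ Φ.mA x.1.1 = (a : F) • 1 := fun x => by
      obtain ⟨a, ha, ha2⟩ := hker x.1 x.2
      exact ⟨Units.mk0 a (fun h => by simp [h] at ha2), ha2, ha⟩
    choose a ha2 ha using hxe
    let φ : ψ.ker →* (powMonoidHom 2 : Fˣ →* Fˣ).ker := MonoidHom.mk'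
      (fun x => ⟨a x, MonoidHom.mem_ker.2 (Units.ext (by simpa using ha2 x))⟩)
      (fun x y => Subtype.ext (Units.ext (by
        have h := Φ.mA_mul hF x.1.1 (hMle y.1.2)
        have h' := ha (x * y)
        rw [show ((x * y).1.1 : SU 3 F q) = x.1.1 * y.1.1 from rfl, h, ha, ha] at h'
        have := congrFun (congrFun h' 0) 0
        simp [Matrix.mul_apply, Fin.sum_univ_two] at this
        exact this.symm)))
    refine Subgroup.card_dvd_of_injective φ fun x y hxy => Subtype.ext (Subtype.ext ?_)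
    have he : a x = a y := congrArg Subtype.val hxy
    obtain ⟨x1, x2⟩ := Φ.image_ef hF (hMle x.1.2)
    obtain ⟨y1, y2⟩ := Φ.image_ef hF (hMle y.1.2)
    rw [ha, he, ← ha] at x1 x2
    exact Φ.ext' hF (x1.trans y1.symm) (x2.trans y2.symm)
      ((Subgroup.mem_inf.1 x.1.2).2.trans (Subgroup.mem_inf.1 y.1.2).2.symm)
  have hpq : p ∣ q := hqp ▸ dvd_pow_self p (by omega)
  have hpq1 : ¬ p ∣ q + 1 := fun h => hp.not_dvd_one ((Nat.dvd_add_right hpq).1 h)
  have hpq2 : ¬ p ∣ q - 1 := fun h => hp.not_dvd_one (by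
    have := Nat.dvd_sub hpq h
    rwa [show q - (q - 1) = 1 by omega] at this)
  have hpd : ¬ p ∣ d0 := fun h => hpq2 (h.trans hd0)
  have hpc : ¬ p ∣ Nat.card ψ.ker := by
    intro h
    have h1 := (h.trans hc2).trans (Nat.gcd_dvd_right _ _)
    have hp2 := (Nat.prime_dvd_prime_iff_eq hp Nat.prime_two).1 h1
    have h3 := (h.trans hc2).trans (Nat.gcd_dvd_left _ _)
    have h4 : p ∣ q ^ 2 := hpq.trans (dvd_pow_self q two_ne_zero)
    have := Nat.dvd_sub h4 h3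
    rw [show q ^ 2 - (q ^ 2 - 1) = 1 by
      have : 1 ≤ q ^ 2 := Nat.one_le_pow _ _ (by omega)
      omega] at this
    exact hp.not_dvd_one this
  have hBG : p ^ k0 ∣ Nat.card G := by
    refine pow_dvd_cancel hp hpc ?_
    rw [← hsplit, hcardM, hk0']
    exact dvd_mul_of_dvd_right (dvd_mul_right _ _) _
  have hqG : q + 1 ∣ Nat.card G * 2 := by
    refine (Dvd.intro _ hcardM.symm).trans ?_
    rw [hsplit]
    exact Nat.mul_dvd_mul_left _ (hc2.trans (Nat.gcd_dvd_right _ _))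
  rcases DicksonFull.dvd_cases (p := p) G ((dvd_pow_self p hk0pos.ne').trans hBG) with
    ⟨-, hcomm, -⟩ | ⟨r, k, hk, hr, hk1, hk2, hcase⟩
  · exfalso
    obtain ⟨X, hX, hX1⟩ := hRS Φ.e (isoVec_e Φ)
    obtain ⟨Y, hY, hY1⟩ := hRS Φ.f ⟨Φ.f_ne hF, Φ.hyp.2.1⟩
    obtain ⟨hXK, hXR⟩ := Subgroup.mem_inf.1 hX
    obtain ⟨hYK, hYR⟩ := Subgroup.mem_inf.1 hY
    have hXM : X ∈ M := Subgroup.mem_inf.2 ⟨hXK, hXR Φ.w Φ.we⟩
    have hYM : Y ∈ M := Subgroup.mem_inf.2 ⟨hYK, hYR Φ.w Φ.wf⟩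
    obtain ⟨Ψ, hΨe, -⟩ := exists_frame_of_hyp hF (Φ.hyp.swap hF)
    have hX2 : (ψ.rangeRestrict ⟨X, hXM⟩) ^ p = 1 := by
      rw [← map_pow, show (⟨X, hXM⟩ : M) ^ p = 1 from Subtype.ext (tv_pow_eq_one hF Φ hXR),
        map_one]
    have hY2 : (ψ.rangeRestrict ⟨Y, hYM⟩) ^ p = 1 := by
      rw [← map_pow, show (⟨Y, hYM⟩ : M) ^ p = 1 from
        Subtype.ext (tv_pow_eq_one hF Ψ (hΨe.symm ▸ hYR)), map_one]
    have h := congrArg Subtype.val (hcomm _ _ hX2 hY2).eq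
    simp only [Subgroup.coe_mul, MonoidHom.coe_rangeRestrict, ← map_mul] at h
    have h' : ψ ((⟨X, hXM⟩ * ⟨Y, hYM⟩) * (⟨Y, hYM⟩ * ⟨X, hXM⟩)⁻¹) = 1 := by
      rw [map_mul, h, ← map_mul, mul_inv_cancel, map_one]
    obtain ⟨a, ha, -⟩ := hker _ (MonoidHom.mem_ker.2 h')
    have hYX : Φ.mA (X * Y) = a • Φ.mA (Y * X) := by
      have h2 := Φ.mA_mul hF (X * Y * (Y * X)⁻¹) (Y := Y * X)
        (hMle (M.mul_mem hYM hXM))
      rw [inv_mul_cancel_right] at h2
      rw [h2]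
      show Φ.mA _ * _ = _
      erw [ha]
      rw [smul_mul_assoc, one_mul]
    obtain ⟨-, hc⟩ := exists_tc hF Φ.hyp hXR
    obtain ⟨c', -, hc'⟩ := (mem_RS_iff hF (Φ.hyp.swap hF)).1 hYR
    have hc0 : tc Φ.f X ≠ 0 := fun h0 => hX1 (suToGU_injective (GU_ext fun x => by
      rw [hc x, h0, map_one]; simp))
    have hc0' : c' ≠ 0 := fun h0 => hY1 (suToGU_injective (GU_ext fun x => by
      rw [hc' x, h0, map_one]; simp))
    have Xe : X.1.1 *ᵥ Φ.e = Φ.e := by
      have := hc Φ.e; rw [suToGU_val] at this; simpa [Φ.hyp.1] using this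
    have Xf : X.1.1 *ᵥ Φ.f = Φ.f + tc Φ.f X • Φ.e := by
      have := hc Φ.f; rw [suToGU_val] at this; simpa [Φ.hyp.symm' hF] using this
    have Ye : Y.1.1 *ᵥ Φ.e = Φ.e + c' • Φ.f := by
      have := hc' Φ.e; rw [suToGU_val] at this; simpa [Φ.hyp.2.2] using this
    have e1 := congrFun (congrFun hYX 1) 0
    have e2 := congrFun (congrFun hYX 0) 0
    simp only [Frame.mA, Matrix.smul_apply, smul_eq_mul, Unitary.SU_mul_mulVec, Xe, Ye, Xf,
      Matrix.mulVec_add, Matrix.mulVec_smul] at e1 e2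
    simp [herm_add_left, herm_smul_left, Φ.hyp.1, Φ.hyp.2.1, Φ.hyp.2.2, Φ.hyp.symm' hF] at e1 e2
    have ha1 : a = 1 := by
      have : (a - 1) * c' = 0 := by linear_combination -e1
      rcases mul_eq_zero.1 this with h | h
      · exact sub_eq_zero.1 h
      · exact absurd h hc0'
    rw [ha1] at e2
    exact mul_ne_zero hc0' hc0 (by linear_combination e2)
  · have hcG : Nat.card G ∣ (q + 1) * (p ^ k0 * d0) := by
      rw [← hk0', ← hcardM, hsplit]; exact dvd_mul_right _ _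
    have hkk0 : p ^ k = p ^ k0 := by
      refine Nat.dvd_antisymm ?_ ?_
      · have h1 : p ^ k ∣ p ^ k0 * ((q + 1) * d0) := by
          refine hk1.trans (hcG.trans (dvd_of_eq ?_)); ring
        exact pow_dvd_cancel hp (fun h => (hp.dvd_mul.1 h).elim hpq1 hpd) h1
      · refine Nat.pow_dvd_pow p ?_
        by_contra hlt'
        exact hk2 ((Nat.pow_dvd_pow p (by omega : k + 1 ≤ k0)).trans hBG)
    rw [← hr, ← hk0'] at hkk0
    rcases hcase with ⟨h2, -⟩ | ⟨h3, hcases⟩ | ⟨h3, h60⟩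
    · left
      have hBC : Nat.card B = 2 := hkk0.symm.trans h2
      exact ⟨even_iff_two_dvd.2 (hBC ▸ Dvd.intro _ hm0.symm), hBC⟩
    · exfalso
      have hm : 2 ≤ m0 := by
        rcases Nat.lt_or_ge m0 2 with h | h
        · interval_cases m0
          · omega
          · exact absurd (by omega : Nat.card B = q) hlt
        · exact h
      have hcr : Nat.Coprime (q + 1) r := by
        rw [hr]
        exact (hp.coprime_iff_not_dvd.2 hpq1).symm.pow_right k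
      have hle3 : r ≤ r ^ 3 := Nat.le_self_pow (by norm_num) r
      have e : r * (r ^ 2 - 1) = r ^ 3 - r := by rw [Nat.mul_sub, mul_one]; ring_nf
      have hdvd : q + 1 ∣ r * (2 * (r ^ 2 - 1)) := by
        rw [mul_left_comm, e]
        rcases hcases with h | h
        · have : r ^ 3 - r = 2 * Nat.card G := by omega
          rw [this]
          exact hqG.trans ⟨2, by ring⟩
        · have : r ^ 3 - r = Nat.card G := by omega
          rw [this, mul_comm]
          exact hqG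
      have h4 := hcr.dvd_of_dvd_mul_left hdvd
      rw [hkk0] at h4 h3
      rw [hm0] at h4
      exact no_chord (a := Nat.card B) (m := m0)
        (by rw [← hm0]; exact (isPrimePow_nat_iff q).2 ⟨p, f0, hp, by omega, hqp.symm⟩) (by omega)
        hm h4
    · right
      have hBC : Nat.card B = 3 := hkk0.symm.trans h3
      refine ⟨?_, hBC⟩
      have hp3 : p = 3 := by
        have := hpq
        have h' : 3 ∣ q := hBC ▸ Dvd.intro _ hm0.symm
        exact ((Nat.prime_dvd_prime_iff_eq Nat.prime_three hp).1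
          (Nat.prime_three.dvd_of_dvd_pow (hqp ▸ h'))).symm
      subst hp3
      rw [h60] at hqG
      have hf3 : f0 ≤ 4 := by
        by_contra h
        have h1 := Nat.le_of_dvd (by norm_num) hqG
        have : 3 ^ 5 ≤ q := hqp ▸ Nat.pow_le_pow_right (by norm_num) (by omega)
        omega
      interval_cases f0 <;> subst hqp
      · exact absurd (hBC.trans (by norm_num)) hlt
      · norm_num
      · norm_num at hqG
      · norm_num at hqG

end Cfsg.Agent.Lib.MinIndexPSU3
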