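import Mathlib
import Cfsg.Agent.Lib.MinIndexPSU3.Chord
import Cfsg.Agent.Lib.SU3Invol.Basic

/-!
Lib/MinIndexPSU3/CaseTorus: transitive subgroups without transvections whose point stabiliser is
unipotent times a torus part.
-/

set_option autoImplicit false
set_option linter.unusedSectionVars false
set_option linter.style.haveILetI false
set_option maxHeartbeats 800000

namespace Cfsg.Agent.Lib.MinIndexPSU3

open Matrix Module MulAction Cfsg.Agent.Lib.Unitary Cfsg.Agent.Lib.AutPSU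
  Cfsg.Agent.Lib.MinIndexPSU

variable {F : Type*} [Field F] [Fintype F] {q : ℕ}

local notation "V3" => Fin 3 → F

theorem not_dvd_pow_ne {G : Type*} [Monoid G] {x : G} {d k : ℕ} (h : orderOf x = d) (hk : ¬ d ∣ k) :
    x ^ k ≠ 1 := fun hx => hk (h ▸ orderOf_dvd_of_pow_eq_one hx)

/-- An element acting regularly on the two line stabiliser characters fixes a second line. -/
theorem exists_partner_frame (hF : Fintype.card F = q ^ 2) (Φ : Frame F q) {g : SU 3 F q} {ζ : Fˣ}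
    (hg : g.1.1 *ᵥ Φ.e = (ζ : F) • Φ.e) (h1 : ζ ^ (q + 1) ≠ 1) (h2 : ζ ^ (2 * q - 1) ≠ 1) :
    ∃ Ψ : Frame F q, Ψ.e = Φ.e ∧ g.1.1 *ᵥ Ψ.f = ((ζ : F) ^ q)⁻¹ • Ψ.f := by
  obtain ⟨Y, t, rfl, hY, hte, htf⟩ := Φ.decomp hF hg
  obtain ⟨-, -, htw⟩ := Φ.diag hF hte htf
  obtain ⟨z, d, hze, hzf, -, hA⟩ := QS_param hF Φ.hyp hY
  obtain ⟨a, ha⟩ := hY.2 Φ.w Φ.we
  set x := (ζ : F)
  set ν := (x ^ q)⁻¹ with hνdef
  set μ := x ^ q * x⁻¹ with hμdef
  have hx : x ≠ 0 := ζ.ne_zero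
  have hxq : x ^ q ≠ 0 := pow_ne_zero q hx
  have h1q := one_lt_q hF
  have hνμ : ν - μ ≠ 0 := by
    intro h
    apply h2
    ext
    rw [Units.val_pow_eq_pow_val, Units.val_one]
    have h' : x ^ q * x ^ q * x⁻¹ = 1 := by
      rw [mul_assoc, ← hμdef, ← sub_eq_zero.1 h, hνdef, mul_inv_cancel₀ hxq]
    show x ^ (2 * q - 1) = 1
    apply mul_right_cancel₀ hx
    rw [← pow_succ, Nat.sub_add_cancel (by omega), one_mul, two_mul, pow_add]
    field_simp at h'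
    linear_combination h'
  have hνx : ν - x ≠ 0 := by
    intro h
    apply h1
    ext
    rw [Units.val_pow_eq_pow_val, Units.val_one]
    show x ^ (q + 1) = 1
    rw [pow_succ]
    conv_lhs => arg 2; rw [← sub_eq_zero.1 h]
    exact mul_inv_cancel₀ hxq
  have hYf : Y.1.1 *ᵥ Φ.f = Φ.f + z + d • Φ.e := by
    have := hA Φ.f
    rw [suToGU_val, Φ.hyp.symm' hF, herm_eq_zero_symm hF hzf] at this
    rw [this]
    module
  obtain ⟨α, hzα⟩ : ∃ α : F, z = α • Φ.w := ⟨_, Φ.rest_eq hF ((mem_rest hF).2 ⟨hze, hzf⟩)⟩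
  set s := ν * α / (ν - μ) with hsdef
  set r := (ν * d + s * μ * a) / (ν - x) with hrdef
  set f' := Φ.f + s • Φ.w + r • Φ.e with hf'
  have hgf : (Y * t).1.1 *ᵥ f' = ν • f' := by
    have hs : s * (ν - μ) = ν * α := div_mul_cancel₀ _ hνμ
    have hr : r * (ν - x) = ν * d + s * μ * a := div_mul_cancel₀ _ hνx
    rw [Unitary.SU_mul_mulVec, hf']
    simp only [Matrix.mulVec_add, Matrix.mulVec_smul, htf, htw, hte, hYf, ha, hY.1, hzα,
      smul_add, smul_smul]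
    have e1 : ν * α + s * μ = ν * s := by linear_combination -hs
    have e2 : ν * d + (s * μ * a + r * x) = ν * r := by linear_combination -hr
    rw [← e1, ← e2]
    module
  have hf'0 : hermForm 3 F q f' f' = 0 := by
    have h := SU_herm (Y * t) f' f'
    rw [hgf, herm_smul_left, herm_smul_right, ← mul_assoc] at h
    have hne : ν * ν ^ q ≠ 1 := by
      rw [hνdef, inv_pow, pow_q_q hF, ← mul_inv, inv_ne_one]
      intro h'
      apply h1
      ext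
      rw [Units.val_pow_eq_pow_val, Units.val_one, pow_succ]
      exact h'
    have h3 : (ν * ν ^ q - 1) * hermForm 3 F q f' f' = 0 := by rw [sub_mul, h, one_mul, sub_self]
    exact (mul_eq_zero.1 h3).resolve_left (sub_ne_zero.2 hne)
  have hef : hermForm 3 F q Φ.e f' = 1 := by
    simp [hf', herm_add_right _ _ _ hF, herm_smul_right, Φ.hyp.1, Φ.hyp.2.2, Φ.ew hF]
  obtain ⟨Ψ, hΨe, hΨf⟩ := exists_frame_of_hyp hF (⟨Φ.hyp.1, hf'0, hef⟩ : Hyp q Φ.e f')
  exact ⟨Ψ, hΨe, by rw [hΨf]; exact hgf⟩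

theorem torusPart_congr (hF : Fintype.card F = q ^ 2) {Φ Ψ : Frame F q} (h : Ψ.e = Φ.e)
    (K : Subgroup (SU 3 F q)) : torusPart hF Ψ K = torusPart hF Φ K := by
  ext ζ
  rw [mem_torusPart, mem_torusPart, h]

/-- A generator of the point stabiliser modulo the unipotent part, in a good frame. -/
theorem exists_gen (hF : Fintype.card F = q ^ 2) (Φ : Frame F q) (K : Subgroup (SU 3 F q))
    (h1 : ¬ Nat.card (torusPart hF Φ K) ∣ q + 1)
    (h2 : ¬ Nat.card (torusPart hF Φ K) ∣ 2 * q - 1) :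
    ∃ (Ψ : Frame F q) (g : SU 3 F q) (ζ : Fˣ), Ψ.e = Φ.e ∧ g ∈ K ∧
      g.1.1 *ᵥ Ψ.e = (ζ : F) • Ψ.e ∧ g.1.1 *ᵥ Ψ.f = ((ζ : F) ^ q)⁻¹ • Ψ.f ∧
      orderOf ζ = Nat.card (torusPart hF Φ K) ∧ torusPart hF Φ K = Subgroup.zpowers ζ := by
  obtain ⟨⟨ζ, hζ⟩, hgen⟩ := IsCyclic.exists_generator (α := torusPart hF Φ K)
  have hz : torusPart hF Φ K = Subgroup.zpowers ζ := by
    refine le_antisymm (fun x hx => ?_) (Subgroup.zpowers_le.2 hζ)
    obtain ⟨i, hi⟩ := hgen ⟨x, hx⟩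
    exact ⟨i, congrArg Subtype.val hi⟩
  have hord : orderOf ζ = Nat.card (torusPart hF Φ K) := by rw [hz, Nat.card_zpowers]
  obtain ⟨g, hgK, hg⟩ := (mem_torusPart hF Φ).1 hζ
  obtain ⟨Ψ, hΨe, hgf⟩ := exists_partner_frame hF Φ hg (not_dvd_pow_ne hord h1)
    (not_dvd_pow_ne hord h2)
  exact ⟨Ψ, g, ζ, hΨe, hgK, by rw [hΨe]; exact hg, hgf, hord, hz⟩

/-- Even `q`: no subgroup whose point stabilisers are cyclic of order `q ^ 2 - 1`. -/
theorem no_torus_even (hF : Fintype.card F = q ^ 2) (hev : Even q) (hq : 3 ≤ q) (Φ : Frame F q)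
    {K : Subgroup (SU 3 F q)} (hK : TransOn K fun _ => True)
    (hP : Nat.card (K ⊓ QS Φ.e : Subgroup (SU 3 F q)) = 1)
    (hd : Nat.card (torusPart hF Φ K) = q ^ 2 - 1) : False := by
  have hq4 : 4 ≤ q := by rcases hev with ⟨k, hk⟩; omega
  have hsq : 4 * q ≤ q ^ 2 := by rw [sq]; exact Nat.mul_le_mul_right q hq4
  have hlt : ∀ k, 0 < k → k < q ^ 2 - 1 → ¬ Nat.card (torusPart hF Φ K) ∣ k := fun k hk0 hk h => by
    have := Nat.le_of_dvd hk0 h
    omega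
  obtain ⟨Ψ, g, ζ, hΨe, hgK, hge, hgf, hord, -⟩ :=
    exists_gen hF Φ K (hlt _ (by omega) (by omega)) (hlt _ (by omega) (by omega))
  rw [← hΨe] at hP
  rw [← torusPart_congr hF hΨe K] at hd hord
  set x := (ζ : F)
  have hx : x ≠ 0 := ζ.ne_zero
  have hxq : x ^ q ≠ 0 := pow_ne_zero q hx
  obtain ⟨-, -, hgw⟩ := Ψ.diag hF hge hgf
  have hne : ∀ k, 0 < k → k < q ^ 2 - 1 → x ^ k ≠ 1 := fun k hk0 hk h =>
    not_dvd_pow_ne hord (fun h' => hlt k hk0 hk (by rw [← torusPart_congr hF hΨe K]; exact h'))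
      (Units.ext (by rw [Units.val_pow_eq_pow_val]; exact h))
  have hfix : ∀ v, IsoVec q v → g ∈ NS v →
      (∃ c : F, v = c • Ψ.e) ∨ ∃ c : F, v = c • Ψ.f := by
    rintro v hv ⟨c, hc, hgv⟩
    set a := hermForm 3 F q v Ψ.f
    set b := hermForm 3 F q v Ψ.e
    set e := hermForm 3 F q v Ψ.w
    have hv' : v = a • Ψ.e + b • Ψ.f + e • Ψ.w := Ψ.coord hF v
    rw [hv'] at hgv
    simp only [Matrix.mulVec_add, Matrix.mulVec_smul, hge, hgf, hgw, smul_add, smul_smul] at hgv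
    have ea := congrArg (fun u => hermForm 3 F q u Ψ.f) hgv
    have eb := congrArg (fun u => hermForm 3 F q u Ψ.e) hgv
    have ee := congrArg (fun u => hermForm 3 F q u Ψ.w) hgv
    simp [herm_add_left, herm_smul_left, Ψ.hyp.1, Ψ.hyp.2.1, Ψ.hyp.2.2, Ψ.hyp.symm' hF, Ψ.we,
      Ψ.wf, Ψ.ww, Ψ.ew hF, Ψ.fw hF] at ea eb ee
    by_cases ha : a = 0
    · by_cases hb : b = 0
      · exfalso
        rw [ha, hb, zero_smul, zero_smul, zero_add, zero_add] at hv'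
        have h0 := hv.2
        rw [hv', herm_smul_left, herm_smul_right, Ψ.ww, mul_one] at h0
        have he0 : e = 0 := by
          rcases mul_eq_zero.1 h0 with h | h
          · exact h
          · exact pow_eq_zero_iff (q_ne_zero hF) |>.1 h
        exact hv.1 (by rw [hv', he0, zero_smul])
      · have hc' : c = (x ^ q)⁻¹ := mul_right_cancel₀ hb (by linear_combination -eb)
        by_cases he : e = 0
        · exact Or.inr ⟨b, by rw [hv', ha, he]; simp⟩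
        · exfalso
          have h' : c = x ^ q * x⁻¹ := mul_right_cancel₀ he (by linear_combination -ee)
          rw [hc'] at h'
          field_simp at h'
          refine hne (2 * q - 1) (by omega) (by omega) (mul_right_cancel₀ hx ?_)
          rw [← pow_succ, Nat.sub_add_cancel (by omega), one_mul, two_mul, pow_add]
          linear_combination -h'
    · have hc' : c = x := mul_right_cancel₀ ha (by linear_combination -ea)
      by_cases hb : b = 0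
      · by_cases he : e = 0
        · exact Or.inl ⟨a, by rw [hv', hb, he]; simp⟩
        · exfalso
          have h' : c = x ^ q * x⁻¹ := mul_right_cancel₀ he (by linear_combination -ee)
          rw [hc'] at h'
          field_simp at h'
          refine hne (q - 2) (by omega) (by omega) (mul_right_cancel₀ (pow_ne_zero 2 hx) ?_)
          rw [← pow_add, Nat.sub_add_cancel (by omega), one_mul]
          linear_combination -h'
      · exfalso
        have h' : c = (x ^ q)⁻¹ := mul_right_cancel₀ hb (by linear_combination -eb)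
        rw [hc'] at h'
        refine hne (q + 1) (by omega) (by omega) ?_
        rw [pow_succ]
        conv_lhs => arg 2; rw [h']
        exact mul_inv_cancel₀ hxq
  -- the point stabilisers
  have hcard : ∀ v, IsoVec q v →
      Nat.card (K ⊓ NS v : Subgroup (SU 3 F q)) = q ^ 2 - 1 := by
    intro v hv
    have h1 := card_of_transOn hF Ψ hK hv
    rw [card_of_transOn hF Ψ hK (isoVec_e Ψ), card_inf_NS hF, hP, hd, one_mul] at h1
    exact (Nat.eq_of_mul_eq_mul_left (Nat.succ_pos _) h1).symm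
  have hKodd : Odd (Nat.card K) := by
    rw [card_of_transOn hF Ψ hK (isoVec_e Ψ), card_inf_NS hF, hP, hd, one_mul]
    have hq2 : Even (q ^ 2) := Nat.even_pow.2 ⟨hev, two_ne_zero⟩
    exact Odd.mul (Even.add_one (Nat.even_pow.2 ⟨hev, by norm_num⟩))
      (Nat.Even.sub_odd (Nat.one_le_pow _ _ (by omega)) hq2 odd_one)
  obtain ⟨k, hkK, c, hc, hke⟩ := hK Ψ.e Ψ.f (isoVec_e Ψ) ⟨Ψ.f_ne hF, Ψ.hyp.2.1⟩ trivial trivial
  have hg1 : orderOf g = q ^ 2 - 1 := by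
    refine Nat.dvd_antisymm ?_ ?_
    · refine orderOf_dvd_of_pow_eq_one ?_
      have hmem : g ^ (q ^ 2 - 1) ∈ K ⊓ QS Ψ.e := by
        refine Subgroup.mem_inf.2 ⟨K.pow_mem hgK _, ?_⟩
        rw [← Ψ.PS_eq_QS hF]
        show (g ^ (q ^ 2 - 1)).1.1 *ᵥ Ψ.e = Ψ.e
        have hgk : ∀ j : ℕ, (g ^ j).1.1 *ᵥ Ψ.e = x ^ j • Ψ.e := by
          intro j
          induction j with
          | zero => simp
          | succ j ih =>
            rw [pow_succ, Unitary.SU_mul_mulVec, hge, Matrix.mulVec_smul, ih, smul_smul, pow_succ']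
        rw [hgk, ← Units.val_pow_eq_pow_val, ← hd, ← hord, pow_orderOf_eq_one, Units.val_one,
          one_smul]
      rwa [(Subgroup.card_eq_one (H := K ⊓ QS Ψ.e)).1 hP, Subgroup.mem_bot] at hmem
    · rw [← hd, ← hord]
      refine orderOf_dvd_of_pow_eq_one ?_
      have h := congrArg (fun X : SU 3 F q => X.1.1 *ᵥ Ψ.e) (pow_orderOf_eq_one g)
      have hgk : ∀ j : ℕ, (g ^ j).1.1 *ᵥ Ψ.e = x ^ j • Ψ.e := by
        intro j
        induction j with
        | zero => simp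
        | succ j ih =>
          rw [pow_succ, Unitary.SU_mul_mulVec, hge, Matrix.mulVec_smul, ih, smul_smul, pow_succ']
      simp only [hgk] at h
      ext
      rw [Units.val_pow_eq_pow_val, Units.val_one]
      exact smul_left_injective F Ψ.e_ne (by simpa using h)
  have hgNf : g ∈ NS Ψ.f := ⟨(x ^ q)⁻¹, inv_ne_zero hxq, hgf⟩
  have hNf : Subgroup.zpowers (k * g * k⁻¹) = K ⊓ NS Ψ.f ∧ Subgroup.zpowers g = K ⊓ NS Ψ.f := by
    have hk : k * g * k⁻¹ ∈ K ⊓ NS Ψ.f := by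
      refine Subgroup.mem_inf.2 ⟨K.mul_mem (K.mul_mem hkK hgK) (K.inv_mem hkK), ?_⟩
      rw [← NS_smul (v := Ψ.f) hc, ← hke]
      exact ⟨x, hx, by rw [Unitary.SU_mul_mulVec, Unitary.SU_mul_mulVec, Unitary.SU_inv_mulVec,
        hge, Matrix.mulVec_smul]⟩
    have hcf := hcard Ψ.f ⟨Ψ.f_ne hF, Ψ.hyp.2.1⟩
    refine ⟨Subgroup.eq_of_le_of_card_ge (Subgroup.zpowers_le.2 hk) ?_,
      Subgroup.eq_of_le_of_card_ge (Subgroup.zpowers_le.2 (Subgroup.mem_inf.2 ⟨hgK, hgNf⟩)) ?_⟩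
    · rw [hcf, Nat.card_zpowers, show orderOf (k * g * k⁻¹) = orderOf g from
        (MulAut.conj k).orderOf_eq g, hg1]
    · rw [hcf, Nat.card_zpowers, hg1]
  have hgkf : g ∈ NS (k.1.1 *ᵥ Ψ.f) := by
    have hmem : g ∈ Subgroup.zpowers (k * g * k⁻¹) := by
      rw [hNf.1, ← hNf.2]; exact Subgroup.mem_zpowers g
    refine (Subgroup.zpowers_le (H := NS (k.1.1 *ᵥ Ψ.f))).2 ?_ hmem
    exact ⟨(x ^ q)⁻¹, inv_ne_zero hxq, by
      rw [Unitary.SU_mul_mulVec, Unitary.SU_mul_mulVec, Unitary.SU_inv_mulVec, hgf,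
        Matrix.mulVec_smul]⟩
  rcases hfix _ (IsoVec.map ⟨Ψ.f_ne hF, Ψ.hyp.2.1⟩ k) hgkf with ⟨c', hc'⟩ | ⟨c', hc'⟩
  · obtain ⟨m, hm⟩ := hKodd
    have hk2 : k * k ∈ NS Ψ.e := by
      refine ⟨c * c', mul_ne_zero hc fun h0 => ?_, by
        rw [Unitary.SU_mul_mulVec, hke, Matrix.mulVec_smul, hc', smul_smul]⟩
      rw [h0, zero_smul] at hc'
      exact (IsoVec.map ⟨Ψ.f_ne hF, Ψ.hyp.2.1⟩ k).1 hc'
    have hkeq : k = (k * k) ^ (m + 1) := by
      have h1 : (⟨k, hkK⟩ : K) ^ (2 * m + 1) = 1 := by rw [← hm]; exact pow_card_eq_one'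
      have h2 : k ^ (2 * m + 1) = 1 := congrArg Subtype.val h1
      rw [← pow_two, ← pow_mul, show 2 * (m + 1) = 2 * m + 1 + 1 by ring, pow_succ, h2, one_mul]
    obtain ⟨a, ha, hka⟩ := (hkeq ▸ (NS Ψ.e).pow_mem hk2 (m + 1) : k ∈ NS Ψ.e)
    rw [hke] at hka
    have := congrArg (fun u => hermForm 3 F q u Ψ.e) hka
    simp [herm_smul_left, Ψ.hyp.1, Ψ.hyp.symm' hF] at this
    exact hc this
  · have h1 := SU_herm k Ψ.e Ψ.f
    rw [hke, hc', herm_smul_left, herm_smul_right, Ψ.hyp.2.1, mul_zero, mul_zero, Ψ.hyp.2.2] at h1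
    exact zero_ne_one h1

/-- Scalar multiples have the same image in `PSL(2)`. -/
theorem psl_mk_eq {a b : Matrix.SpecialLinearGroup (Fin 2) F} {s : F}
    (h : (b : Matrix (Fin 2) (Fin 2) F) = s • (a : Matrix (Fin 2) (Fin 2) F)) :
    (a : Matrix.ProjectiveSpecialLinearGroup (Fin 2) F) = b := by
  refine QuotientGroup.eq.2 ((DicksonFull.mem_center_iff_smul _).2 ⟨s, ?_⟩)
  rw [Matrix.SpecialLinearGroup.coe_mul, h, mul_smul_comm, ← Matrix.SpecialLinearGroup.coe_mul,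
    inv_mul_cancel, Matrix.SpecialLinearGroup.coe_one]

theorem isSquare_of_norm_one (hF : Fintype.card F = q ^ 2) (hodd : Odd q) {a : F}
    (ha : a * a ^ q = 1) : IsSquare a := by
  have ha0 : a ≠ 0 := left_ne_zero_of_mul_eq_one ha
  rw [← pow_succ'] at ha
  refine (FiniteField.isSquare_iff ?_ ha0).2 ?_
  · intro h
    have := FiniteField.even_card_of_char_two h
    rw [hF, Nat.pow_mod, Nat.odd_iff.1 hodd] at this
    omega
  · obtain ⟨m, hm⟩ := hodd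
    rw [hF, show q ^ 2 / 2 = (q + 1) * m by subst hm; ring_nf; omega, pow_mul, ha, one_pow]

/-- An involution negates an isotropic vector. -/
theorem exists_neg_isotropic (hF : Fintype.card F = q ^ 2) (hodd : Odd q) {y : SU 3 F q}
    (hy : y * y = 1) (hy1 : y ≠ 1) : ∃ v, IsoVec q v ∧ y.1.1 *ᵥ v = -v := by
  obtain ⟨u, hu, hyu⟩ := SU3Invol.exists_refl hF (SU3Invol.two_ne hF hodd) hy1 hy
  obtain ⟨ι, hι, hιu, -, hιinj, -⟩ := SU3Invol.exists_frame hF hu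
  obtain ⟨s, hs⟩ := norm_surj hF (y := (-1 : F)) (by rw [neg_pow_q hF, one_pow])
  refine ⟨ι ![1, s], ⟨fun h0 => ?_, ?_⟩, ?_⟩
  · have h1 := hι ![1, s] ![1, 0]
    rw [h0, herm_zero_left] at h1
    simp [hermForm, Fin.sum_univ_two, zero_pow_q hF] at h1
  · rw [hι]
    simp [hermForm, Fin.sum_univ_two]
    linear_combination hs
  · rw [hyu, SU3Invol.refl_mulVec, hιu, mul_zero, zero_smul, add_zero]

/-- Odd `q`: the order of the point stabiliser modulo unipotents satisfies Dickson's alternatives. -/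
theorem torus_odd_cases (hF : Fintype.card F = q ^ 2) (hodd : Odd q) (hq : 5 ≤ q) (Φ : Frame F q)
    {K : Subgroup (SU 3 F q)} (hK : TransOn K fun _ => True) (hR : K ⊓ RS Φ.e = ⊥)
    (hP : Odd (Nat.card (K ⊓ QS Φ.e : Subgroup (SU 3 F q))))
    (hde : Even (Nat.card (torusPart hF Φ K)))
    (hd2 : ¬ Nat.card (torusPart hF Φ K) ∣ 2 * (q + 1)) :
    ∃ c, c ∣ Nat.gcd (Nat.card (torusPart hF Φ K)) (q + 1) ∧
      ((q + 1) * Nat.card (torusPart hF Φ K) = 12 * c ∨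
        (q + 1) * Nat.card (torusPart hF Φ K) = 24 * c ∨
        (q + 1) * Nat.card (torusPart hF Φ K) = 60 * c) := by
  classical
  obtain ⟨p, f0, hp, hchar, hf0, hqp⟩ := q_eq_primePow hF
  haveI := Fact.mk hp
  haveI := hchar
  have hd1 : ¬ Nat.card (torusPart hF Φ K) ∣ q + 1 := fun h => hd2 (h.trans (Dvd.intro_left 2 rfl))
  have hd3 : ¬ Nat.card (torusPart hF Φ K) ∣ 2 * q - 1 := fun h => by
    have := (even_iff_two_dvd.1 hde).trans h
    omega
  obtain ⟨Ψ, g, ζ, hΨe, hgK, hge, hgf, hord, hzp⟩ := exists_gen hF Φ K hd1 hd3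
  rw [← hΨe] at hR hP
  rw [← torusPart_congr hF hΨe K] at hde hd2 hord hzp ⊢
  set d := Nat.card (torusPart hF Ψ K) with hddef
  set x := (ζ : F)
  have hx : x ≠ 0 := ζ.ne_zero
  obtain ⟨-, -, hgw⟩ := Ψ.diag hF hge hgf
  have h2 : (2 : F) ≠ 0 := SU3Invol.two_ne hF hodd
  have hgk : ∀ j : ℕ, (g ^ j).1.1 *ᵥ Ψ.e = x ^ j • Ψ.e ∧
      (g ^ j).1.1 *ᵥ Ψ.f = ((x ^ q)⁻¹) ^ j • Ψ.f ∧
      (g ^ j).1.1 *ᵥ Ψ.w = (x ^ q * x⁻¹) ^ j • Ψ.w := by
    intro j
    induction j with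
    | zero => simp
    | succ j ih =>
      obtain ⟨i1, i2, i3⟩ := ih
      refine ⟨?_, ?_, ?_⟩ <;> rw [pow_succ, Unitary.SU_mul_mulVec]
      · rw [hge, Matrix.mulVec_smul, i1, smul_smul, pow_succ']
      · rw [hgf, Matrix.mulVec_smul, i2, smul_smul, pow_succ']
      · rw [hgw, Matrix.mulVec_smul, i3, smul_smul, pow_succ']
  -- the involution
  obtain ⟨t, ht⟩ := hde
  have htpos : 0 < t := by
    have := Nat.card_pos (α := torusPart hF Ψ K)
    omega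
  set z := g ^ t with hzdef
  have hxt : x ^ t = -1 := by
    have h1 : x ^ t * x ^ t = 1 := by
      rw [← pow_add, ← ht, ← hord, ← Units.val_pow_eq_pow_val, pow_orderOf_eq_one, Units.val_one]
    refine (mul_self_eq_one_iff.1 h1).resolve_left fun h => ?_
    refine not_dvd_pow_ne hord (fun hdv => ?_) (Units.ext (by
      rw [Units.val_pow_eq_pow_val]; exact h) : ζ ^ t = 1)
    have := Nat.le_of_dvd htpos hdv
    omega
  have hze : z.1.1 *ᵥ Ψ.e = -Ψ.e := by rw [(hgk t).1, hxt, neg_one_smul]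
  have hzf : z.1.1 *ᵥ Ψ.f = -Ψ.f := by
    rw [(hgk t).2.1, inv_pow, ← pow_mul, mul_comm, pow_mul, hxt, hodd.neg_one_pow, inv_neg, inv_one,
      neg_one_smul]
  have hzw : z.1.1 *ᵥ Ψ.w = Ψ.w := by
    rw [(hgk t).2.2, mul_pow, inv_pow, ← pow_mul, mul_comm q t, pow_mul, hxt, hodd.neg_one_pow]
    norm_num
  have hzK : z ∈ K := K.pow_mem hgK t
  have hz2 : z * z = 1 := Ψ.ext' hF
    (by rw [Unitary.SU_mul_mulVec, hze, Matrix.mulVec_neg, hze]; simp)
    (by rw [Unitary.SU_mul_mulVec, hzf, Matrix.mulVec_neg, hzf]; simp)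
    (by rw [Unitary.SU_mul_mulVec, hzw, hzw]; simp)
  have hzi : z⁻¹ = z := inv_eq_of_mul_eq_one_right hz2
  have hinj : ∀ X Y : SU 3 F q, X ∈ K ⊓ QS Ψ.e → Y ∈ K ⊓ QS Ψ.e → Ψ.al X = Ψ.al Y → X = Y := by
    intro X Y hX hY h
    obtain ⟨hXK, hXQ⟩ := Subgroup.mem_inf.1 hX
    obtain ⟨hYK, hYQ⟩ := Subgroup.mem_inf.1 hY
    have h1 : Ψ.al (X * Y⁻¹) = 0 := by
      have h2 := Ψ.al_mul hF ((QS Ψ.e).mul_mem hXQ ((QS Ψ.e).inv_mem hYQ)) hYQ
      rw [inv_mul_cancel_right] at h2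
      linear_combination h - h2
    have h2 : X * Y⁻¹ ∈ K ⊓ RS Ψ.e := Subgroup.mem_inf.2 ⟨K.mul_mem hXK (K.inv_mem hYK),
      Ψ.mem_RS_of_al hF ((QS Ψ.e).mul_mem hXQ ((QS Ψ.e).inv_mem hYQ)) h1⟩
    rw [hR, Subgroup.mem_bot] at h2
    exact mul_inv_eq_one.1 h2
  have hinv : ∀ X ∈ K ⊓ QS Ψ.e, z * X * z = X⁻¹ := by
    intro X hX
    obtain ⟨hXK, hXQ⟩ := Subgroup.mem_inf.1 hX
    have hzN : z ∈ NS Ψ.e := ⟨-1, neg_ne_zero.2 one_ne_zero, by rw [hze, neg_one_smul]⟩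
    have hc : z * X * z⁻¹ ∈ QS Ψ.e := NS_conj_QS hzN hXQ
    have hal := Ψ.al_conj hF (ζ := -1) (g := z) (by rw [hze, neg_one_smul]) hXQ
    rw [Odd.neg_one_pow (by obtain ⟨m, hm⟩ := hodd; exact ⟨2 * m, by omega⟩)] at hal
    rw [hzi] at hc hal
    refine hinj _ _ (Subgroup.mem_inf.2 ⟨K.mul_mem (K.mul_mem hzK hXK) hzK, hc⟩)
      ((K ⊓ QS Ψ.e).inv_mem hX) ?_
    have h2 := Ψ.al_mul hF hXQ ((QS Ψ.e).inv_mem hXQ)
    rw [mul_inv_cancel, show Ψ.al (1 : SU 3 F q) = 0 from Ψ.al_of_RS hF (RS Ψ.e).one_mem] at h2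
    linear_combination hal + h2
  set M : Subgroup (SU 3 F q) := K ⊓ NS Ψ.w with hMdef
  have hMle : M ≤ NS Ψ.w := inf_le_right
  -- the stabiliser of the chord is transitive on it
  have hmove : ∀ v, IsoVec q v → hermForm 3 F q v Ψ.w = 0 →
      ∃ m ∈ M, ∃ c : F, c ≠ 0 ∧ m.1.1 *ᵥ Ψ.e = c • v := by
    intro v hv hvw
    obtain ⟨k, hk, c, hc, hkc⟩ := hK Ψ.e v (isoVec_e Ψ) hv trivial trivial
    have hzv : z.1.1 *ᵥ v = -v := by
      rw [Ψ.coord hF v, hvw, zero_smul, add_zero, Matrix.mulVec_add, Matrix.mulVec_smul,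
        Matrix.mulVec_smul, hze, hzf, smul_neg, smul_neg, neg_add]
    set y := k⁻¹ * z * k with hy
    have hye : y.1.1 *ᵥ Ψ.e = -Ψ.e := by
      rw [hy, Unitary.SU_mul_mulVec, Unitary.SU_mul_mulVec, hkc, Matrix.mulVec_smul, hzv, smul_neg,
        Matrix.mulVec_neg, ← hkc, Unitary.SU_inv_mulVec]
    have hyz : y * z ∈ K ⊓ QS Ψ.e := by
      refine Subgroup.mem_inf.2
        ⟨K.mul_mem (K.mul_mem (K.mul_mem (K.inv_mem hk) hzK) hk) hzK, ?_⟩
      rw [← Ψ.PS_eq_QS hF]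
      show (y * z).1.1 *ᵥ Ψ.e = Ψ.e
      rw [Unitary.SU_mul_mulVec, hze, Matrix.mulVec_neg, hye, neg_neg]
    obtain ⟨m, hm⟩ := hP
    set Y := (y * z) ^ (m + 1) with hYdef
    have hY : Y ∈ K ⊓ QS Ψ.e := (K ⊓ QS Ψ.e).pow_mem hyz _
    have hYY : Y * Y = y * z := by
      have h1 : (⟨y * z, hyz⟩ : (K ⊓ QS Ψ.e : Subgroup (SU 3 F q))) ^ (2 * m + 1) = 1 := by
        rw [← hm]; exact pow_card_eq_one'
      have h2 : (y * z) ^ (2 * m + 1) = 1 := congrArg Subtype.val h1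
      rw [hYdef, ← pow_add, show m + 1 + (m + 1) = 2 * m + 1 + 1 by omega, pow_succ, h2, one_mul]
    have hcomm : (k * Y)⁻¹ * z * (k * Y) = z := by
      have h1 : z * Y * z = Y⁻¹ := hinv Y hY
      calc (k * Y)⁻¹ * z * (k * Y) = Y⁻¹ * y * Y := by rw [hy]; group
        _ = Y⁻¹ * (y * z) * (z * Y * z) * z := by
          simp only [mul_assoc, hz2, mul_one]
          rw [← mul_assoc z z, hz2, one_mul]
        _ = z := by rw [← hYY, h1]; group
    have hkY : z * (k * Y) = (k * Y) * z := by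
      conv_lhs => rw [← mul_inv_cancel_left (k * Y) (z * (k * Y)), ← mul_assoc (k * Y)⁻¹, hcomm]
    refine ⟨k * Y, Subgroup.mem_inf.2 ⟨K.mul_mem hk (Subgroup.mem_inf.1 hY).1, ?_⟩, c, hc, ?_⟩
    · have hu : z.1.1 *ᵥ ((k * Y).1.1 *ᵥ Ψ.w) = (k * Y).1.1 *ᵥ Ψ.w := by
        rw [← Unitary.SU_mul_mulVec, hkY, Unitary.SU_mul_mulVec, hzw]
      set u := (k * Y).1.1 *ᵥ Ψ.w with hudef
      have hu' := Ψ.coord hF u
      have ha : hermForm 3 F q u Ψ.f = 0 := by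
        have := congrArg (fun v => hermForm 3 F q v Ψ.f) hu
        rw [hu'] at this
        simp [Matrix.mulVec_add, Matrix.mulVec_smul, hze, hzf, hzw, herm_add_left, herm_smul_left,
          herm_neg_left, Ψ.hyp.1, Ψ.hyp.2.1, Ψ.hyp.2.2, Ψ.hyp.symm' hF, Ψ.we, Ψ.wf] at this
        exact SU3Invol.eq_zero_of_neg_eq h2 this
      have hb : hermForm 3 F q u Ψ.e = 0 := by
        have := congrArg (fun v => hermForm 3 F q v Ψ.e) hu
        rw [hu'] at this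
        simp [Matrix.mulVec_add, Matrix.mulVec_smul, hze, hzf, hzw, herm_add_left, herm_smul_left,
          herm_neg_left, Ψ.hyp.1, Ψ.hyp.2.1, Ψ.hyp.2.2, Ψ.hyp.symm' hF, Ψ.we, Ψ.wf] at this
        exact SU3Invol.eq_zero_of_neg_eq h2 this
      rw [ha, hb, zero_smul, zero_smul, zero_add, zero_add] at hu'
      refine ⟨_, fun h0 => ?_, hu'⟩
      rw [h0, zero_smul] at hu'
      apply Ψ.w_ne
      rw [← Unitary.SU_inv_mulVec (k * Y) Ψ.w, ← hudef, hu', Matrix.mulVec_zero]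
    · rw [Unitary.SU_mul_mulVec, (Subgroup.mem_inf.1 hY).2.1, hkc]
  have htrans : TransOn M fun v => hermForm 3 F q v Ψ.w = 0 := by
    intro u v hu hv huw hvw
    obtain ⟨m1, hm1, c1, hc1, h1⟩ := hmove u hu huw
    obtain ⟨m2, hm2, c2, hc2, h2⟩ := hmove v hv hvw
    refine ⟨m2 * m1⁻¹, M.mul_mem hm2 (M.inv_mem hm1), c1⁻¹ * c2,
      mul_ne_zero (inv_ne_zero hc1) hc2, ?_⟩
    have h3 : m1⁻¹.1.1 *ᵥ u = c1⁻¹ • Ψ.e := by
      rw [← Unitary.SU_inv_mulVec m1 (c1⁻¹ • Ψ.e), Matrix.mulVec_smul, h1, smul_smul,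
        inv_mul_cancel₀ hc1, one_smul]
    rw [Unitary.SU_mul_mulVec, h3, Matrix.mulVec_smul, h2, smul_smul]
  have hgM : g ∈ M := Subgroup.mem_inf.2
    ⟨hgK, x ^ q * x⁻¹, mul_ne_zero (pow_ne_zero q hx) (inv_ne_zero hx), hgw⟩
  have hMQ : M ⊓ QS Ψ.e = ⊥ := by
    rw [Subgroup.eq_bot_iff_forall]
    intro X hX
    obtain ⟨hXM, hXQ⟩ := Subgroup.mem_inf.1 hX
    obtain ⟨hXK, a, ha, hXw⟩ := Subgroup.mem_inf.1 hXM
    obtain ⟨b, hb⟩ := hXQ.2 Ψ.w Ψ.we
    rw [hXw] at hb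
    have ha1 : a = 1 := by
      have := congrArg (fun v => hermForm 3 F q v Ψ.w) hb
      simpa [herm_add_left, herm_smul_left, Ψ.ww, Ψ.ew hF] using this
    have hXR : X ∈ (K ⊓ PS Ψ.w) ⊓ QS Ψ.e := Subgroup.mem_inf.2 ⟨Subgroup.mem_inf.2
      ⟨hXK, show X.1.1 *ᵥ Ψ.w = Ψ.w by rw [hXw, ha1, one_smul]⟩, hXQ⟩
    rw [inf_QS_PS hF Ψ K, hR, Subgroup.mem_bot] at hXR
    exact hXR
  have hTM : torusPart hF Ψ M = torusPart hF Ψ K := by
    refine le_antisymm (fun η hη => ?_) ?_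
    · obtain ⟨X, hX, hXe⟩ := (mem_torusPart hF Ψ).1 hη
      exact (mem_torusPart hF Ψ).2 ⟨X, (Subgroup.mem_inf.1 hX).1, hXe⟩
    · rw [hzp, Subgroup.zpowers_le]
      exact (mem_torusPart hF Ψ).2 ⟨g, hgM, hge⟩
  have hMcard : Nat.card M = (q + 1) * d := by
    rw [Ψ.card_chord hF hMle htrans, card_inf_NS hF, hMQ, Subgroup.card_bot, one_mul, hTM, hddef]
  -- the image in `PSL(2, F)`
  have hsq : ∀ X : M, ∃ r : F, r * r = Ψ.lam X.1 := fun X => by
    obtain ⟨r, hr⟩ := isSquare_of_norm_one hF hodd (Ψ.lam_spec hF (hMle X.2)).2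
    exact ⟨r, hr.symm⟩
  choose rt hrt using hsq
  have hlam : ∀ X : M, Ψ.lam X.1 ≠ 0 := fun X =>
    left_ne_zero_of_mul_eq_one (Ψ.lam_spec hF (hMle X.2)).2
  let S : M → Matrix.SpecialLinearGroup (Fin 2) F := fun X => ⟨rt X • Ψ.mA X.1, by
    rw [Matrix.det_smul, Fintype.card_fin, sq, hrt, mul_comm]
    exact Ψ.mA_det hF (hMle X.2)⟩
  let ψ : M →* Matrix.ProjectiveSpecialLinearGroup (Fin 2) F :=
    MonoidHom.mk' (fun X => (S X : Matrix.ProjectiveSpecialLinearGroup (Fin 2) F)) fun X Y => by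
      rw [← QuotientGroup.mk_mul]
      refine psl_mk_eq (s := rt X * rt Y / rt (X * Y)) ?_
      show (rt X • Ψ.mA X.1) * (rt Y • Ψ.mA Y.1) = _ • (rt (X * Y) • Ψ.mA (X.1 * Y.1))
      have hne : rt (X * Y) ≠ 0 := fun h => hlam (X * Y) (by rw [← hrt, h, mul_zero])
      rw [smul_smul, div_mul_cancel₀ _ hne, Ψ.mA_mul hF _ (hMle Y.2), smul_mul_smul_comm]
  set G := ψ.range
  have hsplit : Nat.card M = Nat.card G * Nat.card ψ.ker := by
    rw [Subgroup.card_eq_card_quotient_mul_card_subgroup ψ.ker,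
      Nat.card_congr (QuotientGroup.quotientKerEquivRange ψ).toEquiv]
  have hker : ∀ X ∈ ψ.ker, ∃ a : F, Ψ.mA X.1 = a • 1 := by
    intro X hX
    obtain ⟨a, ha⟩ := (DicksonFull.mem_center_iff_smul _).1
      ((QuotientGroup.eq_one_iff _).1 (MonoidHom.mem_ker.1 hX))
    have hne : rt X ≠ 0 := fun h => hlam X (by rw [← hrt, h, mul_zero])
    refine ⟨a / rt X, smul_right_injective _ hne ?_⟩
    show rt X • Ψ.mA X.1 = rt X • ((a / rt X) • (1 : Matrix (Fin 2) (Fin 2) F))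
    rw [smul_smul, mul_div_cancel₀ _ hne]
    exact ha
  have hcdvd : Nat.card ψ.ker ∣ Nat.gcd d (q + 1) := by
    set H : Subgroup (SU 3 F q) := ψ.ker.map M.subtype with hH
    have hHle : H ≤ NS Ψ.e := by
      rintro _ ⟨X, hX, rfl⟩
      obtain ⟨a, ha⟩ := hker X hX
      refine ⟨a, fun h0 => ?_, ?_⟩
      · have h := Ψ.mA_det hF (hMle X.2)
        simp [ha, h0] at h
      · show X.1.1.1 *ᵥ Ψ.e = a • Ψ.e
        rw [(Ψ.image_ef hF (hMle X.2)).1, ha]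
        simp
    let φ : H →* Fˣ := (Ψ.chi hF).comp (Subgroup.inclusion hHle)
    have hφ : Function.Injective φ := by
      refine (injective_iff_map_eq_one φ).2 fun X hX => ?_
      have h2 := (Ψ.mem_ker_chi hF (Subgroup.inclusion hHle X)).1 (MonoidHom.mem_ker.2 hX)
      obtain ⟨Y, hY, hYX⟩ := X.2
      have h3 : X.1 ∈ M ⊓ QS Ψ.e := Subgroup.mem_inf.2 ⟨hYX ▸ Y.2, h2⟩
      rw [hMQ, Subgroup.mem_bot] at h3
      exact Subtype.ext h3
    rw [← Subgroup.card_subtype M ψ.ker, ← hH,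
      Nat.card_congr (MonoidHom.ofInjective hφ).toEquiv]
    have hmem : ∀ η ∈ φ.range, η ∈ torusPart hF Ψ K ∧ η ^ (q + 1) = 1 := by
      rintro _ ⟨X, rfl⟩
      have hs := Ψ.chi_spec hF (Subgroup.inclusion hHle X)
      obtain ⟨Y, hY, hYX⟩ := X.2
      refine ⟨(mem_torusPart hF Ψ).2 ⟨X.1, ?_, hs⟩, Units.ext ?_⟩
      · rw [← hYX]; exact (Subgroup.mem_inf.1 Y.2).1
      obtain ⟨a, ha⟩ := hker Y hY
      obtain ⟨e1, e2⟩ := Ψ.image_ef hF (hMle Y.2)
      rw [ha] at e1 e2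
      simp at e1 e2
      obtain ⟨-, h3, -⟩ := Ψ.diag hF e1 e2
      have hχ : ((φ X : Fˣ) : F) = a := by
        refine smul_left_injective F Ψ.e_ne (hs.symm.trans ?_)
        show X.1.1.1 *ᵥ Ψ.e = a • Ψ.e
        rw [← hYX]; exact e1
      rw [Units.val_pow_eq_pow_val, hχ, Units.val_one, pow_succ']
      exact h3
    refine Nat.dvd_gcd ?_ (card_dvd_of_pow_eq_one fun η hη => (hmem η hη).2)
    rw [hddef]
    exact Subgroup.card_dvd_of_le fun η hη => (hmem η hη).1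
  have hd_dvd : d ∣ q ^ 2 - 1 := card_dvd_units hF _
  have hpq : p ∣ q := hqp ▸ dvd_pow_self p (by omega)
  have hpG : ¬ p ∣ Nat.card G := fun h => by
    have h1 : p ∣ (q + 1) * d := hMcard ▸ hsplit ▸ h.trans (dvd_mul_right _ _)
    rcases hp.dvd_mul.1 h1 with h1 | h1
    · exact hp.not_dvd_one ((Nat.dvd_add_right hpq).1 h1)
    · have h4 : p ∣ q ^ 2 := hpq.trans (dvd_pow_self q two_ne_zero)
      have := Nat.dvd_sub h4 (h1.trans hd_dvd)
      rw [show q ^ 2 - (q ^ 2 - 1) = 1 by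
        have : 1 ≤ q ^ 2 := Nat.one_le_pow _ _ (by omega)
        omega] at this
      exact hp.not_dvd_one this
  rcases DicksonFull.coprime_cases G hpG with ⟨C, hC, hCi⟩ | hN
  · exfalso
    set C' : Subgroup M := C.comap ψ.rangeRestrict with hC'def
    have hC'i : C'.index ≤ 2 := by
      rw [hC'def, Subgroup.index_comap_of_surjective _ ψ.rangeRestrict_surjective]
      exact hCi
    have hg2 : (⟨g, hgM⟩ : M) ^ 2 ∈ C' := by
      rcases Nat.lt_or_ge C'.index 2 with h | h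
      · have := Subgroup.index_ne_zero_of_finite (H := C')
        rw [Subgroup.index_eq_one.1 (by omega : C'.index = 1)]
        trivial
      · exact Subgroup.sq_mem_of_index_two (le_antisymm hC'i h) _
    set P2 := (⟨g, hgM⟩ : M) ^ 2 with hP2
    have hme : Ψ.mA P2.1 = !![x ^ 2, 0; 0, ((x ^ q)⁻¹) ^ 2] := by
      rw [show P2.1 = g ^ 2 from rfl, Frame.mA, (hgk 2).1, (hgk 2).2.1]
      simp [herm_smul_left, Ψ.hyp.1, Ψ.hyp.2.1, Ψ.hyp.2.2, Ψ.hyp.symm' hF]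
    have hdist : x ^ 2 ≠ ((x ^ q)⁻¹) ^ 2 := by
      intro h
      refine not_dvd_pow_ne hord hd2 (Units.ext ?_)
      rw [Units.val_pow_eq_pow_val, Units.val_one]
      show x ^ (2 * (q + 1)) = 1
      rw [inv_pow, ← pow_mul] at h
      rw [show 2 * (q + 1) = 2 + q * 2 by ring, pow_add]
      nth_rewrite 1 [h]
      exact inv_mul_cancel₀ (pow_ne_zero _ hx)
    have horb : ∀ n ∈ C', (∃ a : F, a ≠ 0 ∧ n.1.1.1 *ᵥ Ψ.e = a • Ψ.e) ∨
        ∃ a : F, a ≠ 0 ∧ n.1.1.1 *ᵥ Ψ.e = a • Ψ.f := by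
      intro n hn
      have h1 : ψ.rangeRestrict n * ψ.rangeRestrict P2 = ψ.rangeRestrict P2 * ψ.rangeRestrict n :=
        congrArg Subtype.val (mul_comm' (⟨_, hn⟩ : C) ⟨_, hg2⟩)
      have h2 : ψ (n * P2) = ψ (P2 * n) := by
        rw [map_mul, map_mul]; exact congrArg Subtype.val h1
      obtain ⟨s, hs⟩ := (DicksonFull.mem_center_iff_smul _).1 (QuotientGroup.eq.1 h2)
      have h3 : rt (P2 * n) • Ψ.mA (P2.1 * n.1) = s • rt (n * P2) • Ψ.mA (n.1 * P2.1) := by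
        have h4 : S (P2 * n) = S (n * P2) * ((S (n * P2))⁻¹ * S (P2 * n)) := by group
        have h5 := congrArg Subtype.val h4
        rw [Matrix.SpecialLinearGroup.coe_mul, hs, mul_smul_comm, mul_one] at h5
        exact h5
      rw [Ψ.mA_mul hF _ (hMle n.2), Ψ.mA_mul hF _ (hMle P2.2), hme, smul_smul] at h3
      have hn0 : rt (P2 * n) ≠ 0 := fun h => hlam (P2 * n) (by rw [← hrt, h, mul_zero])
      obtain ⟨e1, -⟩ := Ψ.image_ef hF (hMle n.2)
      have h00 := congrFun (congrFun h3 0) 0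
      have h10 := congrFun (congrFun h3 1) 0
      simp [Matrix.mul_apply, Matrix.vecMul, dotProduct, Fin.sum_univ_two] at h00 h10
      by_cases ha : Ψ.mA n.1 0 0 = 0
      · rw [ha, zero_smul, zero_add] at e1
        exact Or.inr ⟨_, fun h0 => Ψ.e_ne (GU_mulVec_injective (suToGU 3 F q n.1)
          (by simp [suToGU_val, e1, h0])), e1⟩
      · have hst : rt (P2 * n) = s * rt (n * P2) :=
          mul_right_cancel₀ (mul_ne_zero (pow_ne_zero 2 hx) ha) (by linear_combination h00)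
        have hc : Ψ.mA n.1 1 0 = 0 := by
          have : rt (P2 * n) * (((x ^ q)⁻¹) ^ 2 - x ^ 2) * Ψ.mA n.1 1 0 = 0 := by
            rw [← inv_pow] at h10
            ring_nf at h10 ⊢
            linear_combination h10 - x ^ 2 * Ψ.mA n.1 1 0 * hst
          exact (mul_eq_zero.1 this).resolve_left
            (mul_ne_zero hn0 (sub_ne_zero.2 hdist.symm))
        rw [hc, zero_smul, add_zero] at e1
        exact Or.inl ⟨_, ha, e1⟩
    set C'' := C'.map M.subtype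
    obtain ⟨gf, hgf'⟩ := exists_pt hF Ψ (⟨Ψ.f_ne hF, Ψ.hyp.2.1⟩ : IsoVec q Ψ.f)
    have ho := (orbit_card hF Ψ C'' 1).1
    have hsub : orbit C'' (QuotientGroup.mk 1 : Pt Ψ) ⊆
        ({QuotientGroup.mk 1, QuotientGroup.mk gf} : Set (Pt Ψ)) := by
      rintro _ ⟨⟨m, n, hn, rfl⟩, rfl⟩
      show (QuotientGroup.mk (n.1 * 1) : Pt Ψ) ∈ _
      rw [mul_one]
      rcases horb n hn with ⟨a, ha, h⟩ | ⟨a, ha, h⟩
      · exact Or.inl ((pt_eq_iff Ψ _ _).2 ⟨a⁻¹, inv_ne_zero ha, by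
          simp [h, smul_smul, inv_mul_cancel₀ ha]⟩)
      · exact Or.inr ((pt_eq_iff Ψ _ _).2 ⟨a⁻¹, inv_ne_zero ha, by
          rw [h, hgf', smul_smul, inv_mul_cancel₀ ha, one_smul]⟩)
    have hle2 : Nat.card (orbit C'' (QuotientGroup.mk 1 : Pt Ψ)) ≤ 2 := by
      rw [Nat.card_coe_set_eq]
      exact le_trans (Set.ncard_le_ncard hsub (Set.toFinite _))
        (le_trans (Set.ncard_insert_le _ _) (by simp))
    rw [show ((1 : SU 3 F q).1.1 *ᵥ Ψ.e) = Ψ.e by simp] at ho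
    have hstab : Nat.card (C'' ⊓ NS Ψ.e : Subgroup (SU 3 F q)) ≤ d := by
      refine le_trans (Subgroup.card_le_of_le (inf_le_inf_right _ (Subgroup.map_subtype_le _))) ?_
      rw [card_inf_NS hF, hMQ, Subgroup.card_bot, one_mul, hTM]
    have hC''card : Nat.card C'' = Nat.card C' := Subgroup.card_subtype M C'
    have hM2 : Nat.card M ≤ 4 * d := by
      rw [← Subgroup.index_mul_card C', ← hC''card, ← ho]
      calc C'.index * (Nat.card (orbit C'' (QuotientGroup.mk 1 : Pt Ψ)) *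
            Nat.card (C'' ⊓ NS Ψ.e : Subgroup (SU 3 F q)))
          ≤ 2 * (2 * d) := Nat.mul_le_mul hC'i (Nat.mul_le_mul hle2 hstab)
        _ = 4 * d := by ring
    rw [hMcard] at hM2
    have hdpos : 0 < d := by omega
    have := Nat.le_of_mul_le_mul_right hM2 hdpos
    omega
  · refine ⟨Nat.card ψ.ker, hcdvd, ?_⟩
    rw [← hMcard, hsplit]
    rcases hN with h | h | h
    · exact Or.inl (by rw [h])
    · exact Or.inr (Or.inl (by rw [h]))
    · exact Or.inr (Or.inr (by rw [h]))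

end Cfsg.Agent.Lib.MinIndexPSU3
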