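import Mathlib
import Cfsg.Agent.Lib.MinIndexPSU3.Points

/-!
Lib/MinIndexPSU3/SylowEnd: small orders that no subgroup of `SU 3 F q` of small index has, via an
involution normalising a Sylow subgroup of prime order.
-/

set_option autoImplicit false
set_option linter.unusedSectionVars false
set_option linter.style.haveILetI false

namespace Cfsg.Agent.Lib.MinIndexPSU3

open Matrix Module Cfsg.Agent.Lib.Unitary Cfsg.Agent.Lib.AutPSU Cfsg.Agent.Lib.MinIndexPSU

variable {F : Type*} [Field F] [Fintype F] {q : ℕ}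

local notation "V3" => Fin 3 → F

theorem det_sub_one {M : Matrix (Fin 3) (Fin 3) F} (hd : M.det = 1) :
    (M - 1).det = M.trace - (Matrix.adjugate M).trace := by
  simp only [Matrix.det_fin_three, Matrix.trace_fin_three, Matrix.adjugate_fin_three] at hd ⊢
  simp
  linear_combination hd

theorem card_PS_unit (hF : Fintype.card F = q ^ 2) {w : V3} (hw : hermForm 3 F q w w = 1) :
    Nat.card (PS (q := q) w) = q * (q ^ 2 - 1) := by
  classical
  obtain ⟨Φ⟩ := exists_frame3 (q := q) hF
  have h1 := countUnit_le_index_PS hF (n := 3) (by norm_num) hw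
  have h2 : (PS (q := q) w).index ≤ countUnit F q 3 := by
    rw [countUnit, Subgroup.index]
    refine Nat.card_le_card_of_injective
      (fun x => Quotient.liftOn' x (fun g : SU 3 F q => (⟨g.1.1 *ᵥ w, by rw [SU_herm, hw]⟩ :
        {v : V3 // hermForm 3 F q v v = 1})) fun a b h => ?_) ?_
    · refine Subtype.ext ?_
      have h' : (a⁻¹ * b).1.1 *ᵥ w = w := QuotientGroup.leftRel_apply.1 h
      show a.1.1 *ᵥ w = b.1.1 *ᵥ w
      rw [Unitary.SU_mul_mulVec] at h'
      conv_lhs => rw [← h', AutPSU.SU_mulVec_inv]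
    · intro x y
      induction x using Quotient.inductionOn' with | _ a =>
      induction y using Quotient.inductionOn' with | _ b =>
      intro h
      have h' : a.1.1 *ᵥ w = b.1.1 *ᵥ w := congrArg Subtype.val h
      refine QuotientGroup.eq.2 ?_
      show (a⁻¹ * b).1.1 *ᵥ w = w
      rw [Unitary.SU_mul_mulVec, ← h', Unitary.SU_inv_mulVec]
  have h3 := Subgroup.index_mul_card (PS (q := q) w)
  rw [le_antisymm h2 h1, Φ.card_SU3 hF, countUnit_succ hF] at h3
  have h1q := one_lt_q hF
  simp only [show Even 2 from even_two, if_true] at h3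
  have hpos : 0 < q ^ 2 * (q ^ 3 + 1) := by positivity
  refine Nat.eq_of_mul_eq_mul_left hpos (Eq.trans ?_ (by ring : (q ^ 3 + 1) * (q ^ 3 * (q ^ 2 - 1)) = _))
  exact h3

theorem card_PS_iso (hF : Fintype.card F = q ^ 2) {v : V3} (hv : IsoVec q v) :
    Nat.card (PS (q := q) v) = q ^ 3 := by
  obtain ⟨Φ, rfl⟩ := exists_frame_of_iso hF hv
  rw [Φ.PS_eq_QS hF, Φ.card_QS' hF]

theorem pow_mulVec (g : SU 3 F q) {v : V3} {c : F} (h : g.1.1 *ᵥ v = c • v) (k : ℕ) :
    (g ^ k).1.1 *ᵥ v = c ^ k • v := by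
  induction k with
  | zero => simp
  | succ k ih => rw [pow_succ, Unitary.SU_mul_mulVec, h, Matrix.mulVec_smul, ih, smul_smul, pow_succ']

/-- An element of large prime order is neither centralised nor inverted by an involution. -/
theorem no_invert (hF : Fintype.card F = q ^ 2) {r : ℕ} (hr : r.Prime)
    (hrd : ¬ r ∣ q * (q ^ 2 - 1)) {g y : SU 3 F q} (hg : g ^ r = 1) (hg1 : g ≠ 1)
    (hy : y * y = 1) (hy1 : y ≠ 1) (h : y * g * y⁻¹ = g ∨ y * g * y⁻¹ = g⁻¹) : False := by
  classical
  have hord : orderOf g = r := by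
    haveI := Fact.mk hr
    exact orderOf_eq_prime hg hg1
  have hfix : ∀ v : V3, v ≠ 0 → g.1.1 *ᵥ v = v → False := by
    intro v hv hgv
    by_cases hvv : hermForm 3 F q v v = 0
    · have hd : orderOf g ∣ Nat.card (PS (q := q) v) :=
        Subgroup.orderOf_dvd_natCard _ (show g ∈ PS v from hgv)
      rw [hord, card_PS_iso hF ⟨hv, hvv⟩] at hd
      exact hrd (dvd_mul_of_dvd_left (hr.dvd_of_dvd_pow hd) _)
    · obtain ⟨s, hs⟩ := norm_surj hF (y := (hermForm 3 F q v v)⁻¹)
        (by rw [inv_pow, herm_self_fixed v hF])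
      have hw : hermForm 3 F q (s • v) (s • v) = 1 := by
        rw [herm_smul_left, herm_smul_right, ← mul_assoc, hs, inv_mul_cancel₀ hvv]
      have hd : orderOf g ∣ Nat.card (PS (q := q) (s • v)) :=
        Subgroup.orderOf_dvd_natCard _ (show g.1.1 *ᵥ (s • v) = s • v by
          rw [Matrix.mulVec_smul, hgv])
      rw [hord, card_PS_unit hF hw] at hd
      exact hrd hd
  have heig : ∀ (v : V3) (c : F), v ≠ 0 → g.1.1 *ᵥ v = c • v → False := by
    intro v c hv hgv
    refine hfix v hv ?_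
    have h1 := pow_mulVec g hgv r
    rw [hg] at h1
    have hcr : c ^ r = 1 := by
      refine smul_left_injective F hv ?_
      simpa using h1.symm
    have hc0 : c ≠ 0 := fun h0 => by simp [h0, hr.ne_zero] at hcr
    have h2 : orderOf (Units.mk0 c hc0) ∣ Nat.gcd r (q ^ 2 - 1) := Nat.dvd_gcd
      (orderOf_dvd_of_pow_eq_one (Units.ext (by simpa using hcr)))
      (card_units_eq hF ▸ orderOf_dvd_natCard _)
    rw [(hr.coprime_iff_not_dvd.2 fun h => hrd (dvd_mul_of_dvd_right h q)).gcd_eq_one,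
      Nat.dvd_one, orderOf_eq_one_iff] at h2
    have : c = 1 := congrArg Units.val h2
    rw [hgv, this, one_smul]
  have hyi : y⁻¹ = y := inv_eq_of_mul_eq_one_right hy
  have hyy : y.1.1 * y.1.1 = 1 := congrArg (fun X : SU 3 F q => X.1.1) hy
  rcases h with h | h
  · -- centralised
    have hcomm : y * g = g * y := mul_inv_eq_iff_eq_mul.1 h
    set N : V3 →ₗ[F] V3 := Matrix.toLin' y.1.1 - LinearMap.id
    have hN : ∀ v, N v = y.1.1 *ᵥ v - v := fun v => by simp [N]
    have hgN : ∀ v, g.1.1 *ᵥ N v = N (g.1.1 *ᵥ v) := fun v => by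
      rw [hN, hN, Matrix.mulVec_sub, ← Unitary.SU_mul_mulVec, ← hcomm, Unitary.SU_mul_mulVec]
    have hrange : LinearMap.range N ≠ ⊥ := by
      intro h0
      refine hy1 (AutPSU.SU_ext fun v => ?_)
      have : N v ∈ LinearMap.range N := LinearMap.mem_range_self N v
      rw [h0, Submodule.mem_bot, hN, sub_eq_zero] at this
      simpa using this
    have hker : LinearMap.ker N ≠ ⊥ := by
      intro h0
      have hinj := LinearMap.ker_eq_bot.1 h0
      have hneg : ∀ v, y.1.1 *ᵥ v = -v := fun v => by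
        have h2 : N (y.1.1 *ᵥ v + v) = N 0 := by
          rw [map_zero, hN, Matrix.mulVec_add, Matrix.mulVec_mulVec, hyy, Matrix.one_mulVec]
          abel
        exact eq_neg_of_add_eq_zero_left (hinj h2)
      have hy' : y.1.1 = (-1 : F) • (1 : Matrix (Fin 3) (Fin 3) F) := by
        refine Matrix.ext_of_mulVec_single fun k => ?_
        rw [hneg, Matrix.smul_mulVec, Matrix.one_mulVec, neg_one_smul]
      have hd : y.1.1.det = 1 := y.1.2
      rw [hy', Matrix.det_smul, Matrix.det_one, mul_one, Fintype.card_fin] at hd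
      have h1 : (-1 : F) = 1 := by linear_combination hd
      refine hy1 (AutPSU.SU_ext fun v => ?_)
      rw [hy', h1, one_smul, Matrix.one_mulVec]
      simp
    have hsum := LinearMap.finrank_range_add_finrank_ker N
    rw [finrank_fin_fun] at hsum
    have h1 := Submodule.one_le_finrank_iff.2 hrange
    have h2 := Submodule.one_le_finrank_iff.2 hker
    have key : ∀ W : Submodule F V3, finrank F W = 1 →
        (∀ v ∈ W, g.1.1 *ᵥ v ∈ W) → False := by
      intro W hW hinv
      obtain ⟨⟨v, hv⟩, hv0, hspan⟩ := finrank_eq_one_iff'.1 hW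
      obtain ⟨c, hc⟩ := hspan ⟨_, hinv v hv⟩
      exact heig v c (fun h0 => hv0 (Subtype.ext h0)) (congrArg Subtype.val hc).symm
    rcases (show finrank F (LinearMap.range N) = 1 ∨ finrank F (LinearMap.ker N) = 1 by omega) with
      h1' | h1'
    · refine key _ h1' ?_
      rintro _ ⟨v, rfl⟩
      exact ⟨g.1.1 *ᵥ v, (hgN v).symm⟩
    · refine key _ h1' fun v hv => ?_
      rw [LinearMap.mem_ker, ← hgN, LinearMap.mem_ker.1 hv, Matrix.mulVec_zero]
  · -- inverted
    have hd : (g.1.1 - 1).det = 0 := by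
      rw [det_sub_one g.1.2, sub_eq_zero]
      have hadj : g⁻¹.1.1 = Matrix.adjugate g.1.1 := by
        rw [Subgroup.coe_inv, Matrix.SpecialLinearGroup.coe_inv]
      rw [← hadj, ← h, hyi]
      show _ = Matrix.trace (y.1.1 * g.1.1 * y.1.1)
      rw [Matrix.trace_mul_comm, ← mul_assoc, hyy, one_mul]
    obtain ⟨v, hv, hv'⟩ := Matrix.exists_mulVec_eq_zero_iff.2 hd
    rw [Matrix.sub_mulVec, Matrix.one_mulVec, sub_eq_zero] at hv'
    exact hfix v hv hv'

/-- A prime Sylow subgroup of odd normaliser index forced even: impossible. -/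
theorem no_involution_normalizes (hF : Fintype.card F = q ^ 2) {r : ℕ} (hr : r.Prime)
    (hrd : ¬ r ∣ q * (q ^ 2 - 1)) (K : Subgroup (SU 3 F q)) (P : Subgroup K)
    (hP : Nat.card P = r) : ¬ 2 ∣ Nat.card (Subgroup.normalizer (P : Set K)) := by
  intro h2
  haveI := Fact.mk hr
  haveI := Fact.mk Nat.prime_two
  obtain ⟨y, hy⟩ := exists_prime_orderOf_dvd_card' (G := Subgroup.normalizer (P : Set K)) 2 h2
  have hyord : orderOf (y : K) = 2 := by rw [Subgroup.orderOf_coe, hy]
  have hy2 : (y : K) * y = 1 := by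
    rw [← sq, ← hyord]; exact pow_orderOf_eq_one _
  haveI : IsCyclic P := isCyclic_of_prime_card hP
  obtain ⟨g0, hg0⟩ := IsCyclic.exists_generator (α := P)
  have hgord : orderOf g0 = r := (orderOf_eq_card_of_forall_mem_zpowers hg0).trans hP
  set g : K := g0.1
  have hmem : (y : K) * g * (y : K)⁻¹ ∈ P :=
    (Subgroup.mem_normalizer_iff.1 y.2 g).1 g0.2
  obtain ⟨i, hi⟩ := Subgroup.mem_zpowers_iff.1 (hg0 ⟨_, hmem⟩)
  have hi' : g ^ i = (y : K) * g * (y : K)⁻¹ := by
    have := congrArg Subtype.val hi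
    rwa [SubgroupClass.coe_zpow] at this
  have hsq : g ^ (i * i) = g := by
    rw [_root_.zpow_mul, hi', conj_zpow, hi', show (y : K)⁻¹ = y from inv_eq_of_mul_eq_one_right hy2]
    calc (y : K) * ((y : K) * g * y) * y = (y * y : K) * g * (y * y : K) := by group
      _ = g := by rw [hy2, one_mul, mul_one]
  have hgr : orderOf g = r := by rw [Subgroup.orderOf_coe, hgord]
  have hdvd : (r : ℤ) ∣ (i - 1) * (i + 1) := by
    have h1 : g ^ (i * i - 1) = 1 := by rw [_root_.zpow_sub, hsq, zpow_one, mul_inv_cancel]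
    rw [← orderOf_dvd_iff_zpow_eq_one, hgr] at h1
    convert h1 using 1
    ring
  have hcase : (y : K) * g * (y : K)⁻¹ = g ∨ (y : K) * g * (y : K)⁻¹ = g⁻¹ := by
    rcases (Nat.prime_iff_prime_int.1 hr).dvd_or_dvd hdvd with h | h
    · left
      rw [← hgr, orderOf_dvd_iff_zpow_eq_one, _root_.zpow_sub, zpow_one, mul_inv_eq_one] at h
      rw [← hi', h]
    · right
      rw [← hgr, orderOf_dvd_iff_zpow_eq_one, _root_.zpow_add, zpow_one] at h
      rw [← hi', eq_inv_of_mul_eq_one_left h]
  refine no_invert hF hr hrd (g := (g : SU 3 F q)) (y := ((y : K) : SU 3 F q)) ?_ ?_ ?_ ?_ ?_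
  · rw [← SubmonoidClass.coe_pow, ← hgr, pow_orderOf_eq_one, OneMemClass.coe_one]
  · intro h
    have : g = 1 := OneMemClass.coe_eq_one.1 h
    rw [this, orderOf_one] at hgr
    exact hr.one_lt.ne hgr
  · exact congrArg Subtype.val hy2
  · intro h
    have : (y : K) = 1 := OneMemClass.coe_eq_one.1 h
    rw [this, orderOf_one] at hyord
    omega
  · rcases hcase with h | h
    · exact Or.inl (congrArg Subtype.val h)
    · exact Or.inr (congrArg Subtype.val h)

theorem sylow_data {G : Type*} [Group G] [Finite G] {r m : ℕ} [Fact r.Prime]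
    (hcard : Nat.card G = r * m) (hm : ¬ r ∣ m) (P : Sylow r G) :
    Nat.card P = r ∧ ∃ n, n ∣ m ∧ n % r = 1 ∧
      Nat.card (Subgroup.normalizer ((P : Subgroup G) : Set G)) = r * (m / n) := by
  have hr : r.Prime := Fact.out
  have hm0 : m ≠ 0 := fun h => hm (h ▸ dvd_zero r)
  have hPc : Nat.card P = r := by
    obtain ⟨k, hk⟩ := IsPGroup.iff_card.1 P.isPGroup'
    rcases Nat.lt_or_ge k 2 with hk2 | hk2
    · interval_cases k
      · exfalso
        have := P.dvd_card_of_dvd_card (hcard ▸ dvd_mul_right r m)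
        rw [hk, pow_zero, Nat.dvd_one] at this
        exact hr.ne_one this
      · simpa using hk
    · exfalso
      have h1 : r ^ 2 ∣ r * m := hcard ▸ ((pow_dvd_pow r hk2).trans
        (hk ▸ Subgroup.card_subgroup_dvd_card (P : Subgroup G)))
      rw [sq] at h1
      exact hm (Nat.dvd_of_mul_dvd_mul_left hr.pos h1)
  refine ⟨hPc, Nat.card (Sylow r G), ?_, ?_, ?_⟩
  · have h1 := P.card_dvd_index
    have h2 : (P : Subgroup G).index = m := by
      have h3 := Subgroup.index_mul_card (P : Subgroup G)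
      rw [hPc, hcard, mul_comm] at h3
      exact Nat.eq_of_mul_eq_mul_left hr.pos h3
    rwa [h2] at h1
  · have h1 := card_sylow_modEq_one r G
    unfold Nat.ModEq at h1
    rwa [Nat.one_mod_eq_one.2 hr.ne_one] at h1
  · have h1 := P.card_eq_index_normalizer
    have h2 := Subgroup.index_mul_card (Subgroup.normalizer ((P : Subgroup G) : Set G))
    rw [show (Subgroup.normalizer ((P : Subgroup G) : Set G)).index = Nat.card (Sylow r G) from h1.symm,
      hcard] at h2
    have hn : Nat.card (Sylow r G) ∣ m := by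
      have h4 := P.card_dvd_index
      have h5 := Subgroup.index_mul_card (P : Subgroup G)
      rw [hPc, hcard, mul_comm] at h5
      rwa [Nat.eq_of_mul_eq_mul_left hr.pos h5] at h4
    obtain ⟨t, ht⟩ := hn
    have hpos : 0 < Nat.card (Sylow r G) := Nat.card_pos
    rw [ht, Nat.mul_div_cancel_left t hpos]
    refine Nat.eq_of_mul_eq_mul_left hpos ?_
    rw [h2, ht]
    ring

/-- No subgroup has order `r * m` when all possible normalisers of order `r` are even. -/
theorem no_card (hF : Fintype.card F = q ^ 2) {r m : ℕ} (hr : r.Prime)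
    (hrd : ¬ r ∣ q * (q ^ 2 - 1)) (hm : ¬ r ∣ m)
    (hn : ∀ n, n ∣ m → n % r = 1 → 2 ∣ m / n) (K : Subgroup (SU 3 F q)) :
    Nat.card K ≠ r * m := by
  intro hcard
  haveI := Fact.mk hr
  let P : Sylow r K := default
  obtain ⟨hP, n, hnm, hnr, hN⟩ := sylow_data hcard hm P
  refine no_involution_normalizes hF hr hrd K (P : Subgroup K) hP ?_
  rw [hN]
  exact dvd_mul_of_dvd_right (hn n hnm hnr) r

theorem no_three (hF : Fintype.card F = 3 ^ 2) (K : Subgroup (SU 3 F 3)) : Nat.card K ≠ 224 :=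
  no_card hF (r := 7) (m := 32) (by norm_num) (by norm_num) (by norm_num)
    (fun n hn hn' => (by decide +kernel : ∀ n ∈ Nat.divisors 32, n % 7 = 1 → 2 ∣ 32 / n) n
      (Nat.mem_divisors.2 ⟨hn, by norm_num⟩) hn') K

theorem no_eight (hF : Fintype.card F = 8 ^ 2) (K : Subgroup (SU 3 F 8)) : Nat.card K ≠ 36936 :=
  no_card hF (r := 19) (m := 1944) (by norm_num) (by norm_num) (by norm_num)
    (fun n hn hn' => (by decide +kernel : ∀ n ∈ Nat.divisors 1944, n % 19 = 1 → 2 ∣ 1944 / n) n
      (Nat.mem_divisors.2 ⟨hn, by norm_num⟩) hn') K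

theorem no_nine (hF : Fintype.card F = 9 ^ 2) (K : Subgroup (SU 3 F 9)) : Nat.card K ≠ 78840 :=
  no_card hF (r := 73) (m := 1080) (by norm_num) (by norm_num) (by norm_num)
    (fun n hn hn' => (by decide +kernel : ∀ n ∈ Nat.divisors 1080, n % 73 = 1 → 2 ∣ 1080 / n) n
      (Nat.mem_divisors.2 ⟨hn, by norm_num⟩) hn') K

theorem no_eleven (hF : Fintype.card F = 11 ^ 2) (K : Subgroup (SU 3 F 11))
    (hZ : Subgroup.center (SU 3 F 11) ≤ K)
    (hQ : ∀ v, IsoVec 11 v → ∃ X ∈ K, X ∈ QS v ∧ X ≠ 1) : Nat.card K ≠ 439560 := by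
  classical
  intro hcard
  have hr : (37 : ℕ).Prime := by norm_num
  haveI := Fact.mk hr
  let P : Sylow 37 K := default
  obtain ⟨hP, n, hnm, hnr, hN⟩ := sylow_data (r := 37) (m := 11880) hcard (by norm_num) P
  rcases (by decide +kernel : ∀ n ∈ Nat.divisors 11880, n % 37 = 1 → n = 1 ∨ n = 297 ∨ n = 3960) n
    (Nat.mem_divisors.2 ⟨hnm, by norm_num⟩) hnr with rfl | rfl | rfl
  · refine no_involution_normalizes hF hr (by norm_num) K (P : Subgroup K) hP ?_
    rw [hN]; norm_num
  · refine no_involution_normalizes hF hr (by norm_num) K (P : Subgroup K) hP ?_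
    rw [hN]; norm_num
  -- the normaliser is `P` times the centre
  let Z : Subgroup K := (Subgroup.center (SU 3 F 11)).subgroupOf K
  have hZc : ∀ z ∈ Z, ∀ x : K, z * x = x * z := fun z hz x =>
    Subtype.ext ((Subgroup.mem_center_iff.1 hz x.1).symm)
  have hZcard : Nat.card Z = 3 := by
    rw [Nat.card_congr (Subgroup.subgroupOfEquivOfLe hZ).toEquiv, card_center_SU hF (by norm_num)]
    norm_num
  haveI : IsCyclic (P : Subgroup K) := isCyclic_of_prime_card hP
  set N := Subgroup.normalizer ((P : Subgroup K) : Set K)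
  have hle : N ≤ Subgroup.centralizer ((P : Subgroup K) : Set K) := by
    have hsup : (P : Subgroup K) ⊔ Z = N := by
      have h1 : (P : Subgroup K) ⊔ Z ≤ N := sup_le Subgroup.le_normalizer fun z hz => by
        rw [Subgroup.mem_normalizer_iff]
        intro x
        rw [show z * x * z⁻¹ = x by rw [hZc z hz x, mul_inv_cancel_right]]
      refine Subgroup.eq_of_le_of_card_ge h1 ?_
      rw [hN]
      refine Nat.le_of_dvd Nat.card_pos (Nat.Coprime.mul_dvd_of_dvd_of_dvd (by norm_num) ?_ ?_)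
      · exact (dvd_of_eq hP.symm).trans (Subgroup.card_dvd_of_le le_sup_left)
      · exact (dvd_of_eq ((by norm_num : 11880 / 3960 = 3).trans hZcard.symm)).trans
          (Subgroup.card_dvd_of_le le_sup_right)
    rw [← hsup]
    refine sup_le (fun x hx => Subgroup.mem_centralizer_iff.2 fun y hy => ?_)
      fun z hz => Subgroup.mem_centralizer_iff.2 fun y _ => (hZc z hz y).symm
    exact congrArg Subtype.val
      (mul_comm' (⟨y, hy⟩ : (P : Subgroup K)) ⟨x, hx⟩)
  have hc := MonoidHom.ker_transferSylow_isComplement' P hle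
  set N0 := (MonoidHom.transferSylow P hle).ker
  have hN0 : Nat.card N0 = 11880 := by
    have := hc.card_mul_card
    rw [hP, hcard] at this
    omega
  have hmem : ∀ x : K, x ^ (11 ^ 2) = 1 → x ∈ N0 := by
    intro x hx
    have hidx : N0.index = 37 := by
      have h := Subgroup.index_mul_card N0
      rw [hN0, hcard] at h
      omega
    have h37 : x ^ 37 ∈ N0 := hidx ▸ Subgroup.pow_index_mem N0 x
    have h2 : x = (x ^ 37) ^ 36 := by
      rw [← pow_mul, show 37 * 36 = 11 ^ 2 * 11 + 1 by norm_num, pow_succ, pow_mul, hx, one_pow,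
        one_mul]
    rw [h2]
    exact N0.pow_mem h37 36
  set M := N0.map K.subtype with hMdef
  haveI : CharP F 11 := by
    obtain ⟨p, k, hp, hchar, -, hk⟩ := q_eq_primePow hF
    have : p = 11 := ((Nat.prime_dvd_prime_iff_eq (by norm_num) hp).1
      ((by norm_num : Nat.Prime 11).dvd_of_dvd_pow (dvd_of_eq hk))).symm
    exact this ▸ hchar
  haveI : Fact (Nat.Prime 11) := ⟨by norm_num⟩
  have ht : TransOn M fun _ => True :=
    transOn_of_pgroups hF M _ (fun _ _ _ _ => trivial) fun v hv _ => by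
      obtain ⟨X, hXK, hXQ, hX1⟩ := hQ v hv
      refine ⟨X, ⟨⟨X, hXK⟩, hmem _ (Subtype.ext ?_), rfl⟩, hXQ, hX1⟩
      obtain ⟨f, hf⟩ := exists_hyp hF hv.1 hv.2
      show X ^ (11 ^ 2) = 1
      obtain ⟨k, hk⟩ := isPGroup_QS (p := 11) hF hf ⟨X, hXQ⟩
      have hk' : X ^ 11 ^ k = 1 := congrArg Subtype.val hk
      obtain ⟨z, d, hze, -, -, hA⟩ := QS_param hF hf hXQ
      obtain ⟨d1, h1, -⟩ := eich_pow hF hf.1 hze hA 11
      rw [CharP.cast_eq_zero, zero_smul] at h1
      obtain ⟨d2, h2, h20⟩ := eich_pow hF hf.1 (herm_zero_left _) h1 11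
      rw [h20 rfl, CharP.cast_eq_zero, zero_mul, zero_smul, ← pow_mul, ← sq] at h2
      refine suToGU_injective ?_
      rw [map_pow, map_one]
      exact GU_ext fun x => by rw [h2 x, herm_zero_right x hF]; simp
  obtain ⟨Φ⟩ := exists_frame3 (q := 11) hF
  have h := card_of_transOn hF Φ ht (isoVec_e Φ)
  rw [hMdef, Subgroup.card_subtype, hN0] at h
  have hd : (11 ^ 3 + 1) ∣ 11880 := Dvd.intro _ h.symm
  norm_num at hd

end Cfsg.Agent.Lib.MinIndexPSU3
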