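import Mathlib
import Cfsg.Agent.Lib.MinIndexPSU3.CaseTorus
import Cfsg.Agent.Lib.MinIndexPSU3.SylowEnd

/-!
Lib/MinIndexPSU3/Main: proper subgroups of `SU 3 F q` containing the centre have index greater than
`q ^ 3`, except for `q = 5` where it is at least `50`.
-/

set_option autoImplicit false
set_option linter.unusedSectionVars false
set_option linter.style.haveILetI false

namespace Cfsg.Agent.Lib.MinIndexPSU3

open Matrix Module Cfsg.Agent.Lib.Unitary Cfsg.Agent.Lib.AutPSU Cfsg.Agent.Lib.MinIndexPSU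

variable {F : Type*} [Field F] [Fintype F] {q : ℕ}

local notation "V3" => Fin 3 → F

/-- The rest coordinates of a subgroup. -/
def restCoord (hF : Fintype.card F = q ^ 2) (Φ : Frame F q) (K : Subgroup (SU 3 F q)) :
    AddSubgroup F where
  carrier := Φ.al '' ((K ⊓ QS Φ.e : Subgroup (SU 3 F q)) : Set (SU 3 F q))
  zero_mem' := ⟨1, one_mem _, Φ.al_of_RS hF (RS Φ.e).one_mem⟩
  add_mem' := by
    rintro _ _ ⟨X, hX, rfl⟩ ⟨Y, hY, rfl⟩
    exact ⟨X * Y, mul_mem hX hY,
      Φ.al_mul hF (Subgroup.mem_inf.1 hX).2 (Subgroup.mem_inf.1 hY).2⟩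
  neg_mem' := by
    rintro _ ⟨X, hX, rfl⟩
    refine ⟨X⁻¹, inv_mem hX, ?_⟩
    have h := Φ.al_mul hF (Subgroup.mem_inf.1 hX).2 ((QS Φ.e).inv_mem (Subgroup.mem_inf.1 hX).2)
    rw [mul_inv_cancel, Φ.al_of_RS hF (RS Φ.e).one_mem] at h
    linear_combination -h

/-- The parameters of a point stabiliser. -/
def params (hF : Fintype.card F = q ^ 2) (Φ : Frame F q) (K : Subgroup (SU 3 F q)) : Params F q where
  A := restCoord hF Φ K
  B := tvPart hF Φ.hyp K
  D := torusPart hF Φ K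
  pair := by
    rintro _ ⟨X, hX, rfl⟩ _ ⟨Y, hY, rfl⟩
    have h := pairing_mem hF Φ.hyp (K := K) (a := zp Φ.e Φ.f X) (b := zp Φ.e Φ.f Y)
      ⟨X, hX, rfl⟩ ⟨Y, hY, rfl⟩
    rw [Φ.zp_eq hF, Φ.zp_eq hF] at h
    simp only [herm_smul_left, herm_smul_right, Φ.ww, mul_one] at h
    convert h using 1 <;> ring
  sqB := by
    rintro h2 _ ⟨X, hX, rfl⟩
    obtain ⟨hXK, hXQ⟩ := Subgroup.mem_inf.1 hX
    obtain ⟨d, hd, hA⟩ := exists_param hF Φ.hyp hXQ
    rw [Φ.zp_eq hF] at hA
    set a := Φ.al X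
    have hae : hermForm 3 F q (a • Φ.w) Φ.e = 0 := by rw [herm_smul_left, Φ.we, mul_zero]
    have hXX := hA.mul hF hA Φ.hyp.1 hae hae
    rw [← add_smul, ← two_mul, h2, zero_mul, zero_smul, ← map_mul] at hXX
    have htv := hXX.tv hF
    have hval : d + d - hermForm 3 F q (a • Φ.w) (a • Φ.w) = a ^ (q + 1) := by
      rw [herm_smul_left, herm_smul_right, Φ.ww, mul_one, pow_succ]
      linear_combination (d - a ^ q * a) * h2
    rw [hval] at htv
    have hR : X * X ∈ RS Φ.e := by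
      refine Φ.mem_RS_of_al hF ((QS Φ.e).mul_mem hXQ hXQ) ?_
      rw [Φ.al_mul hF hXQ hXQ, ← two_mul, h2, zero_mul]
    exact ⟨X * X, Subgroup.mem_inf.2 ⟨K.mul_mem hXK hXK, hR⟩, tc_of_tv hF Φ.hyp htv⟩
  actA := by
    rintro ζ hζ _ ⟨X, hX, rfl⟩
    obtain ⟨g, hg, hge⟩ := (mem_torusPart hF Φ).1 hζ
    obtain ⟨hXK, hXQ⟩ := Subgroup.mem_inf.1 hX
    refine ⟨g * X * g⁻¹, Subgroup.mem_inf.2 ⟨K.mul_mem (K.mul_mem hg hXK) (K.inv_mem hg),
      NS_conj_QS ⟨_, ζ.ne_zero, hge⟩ hXQ⟩, ?_⟩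
    rw [Φ.al_conj hF hge hXQ, Units.val_pow_eq_pow_val]
  actB := by
    rintro ζ hζ _ ⟨X, hX, rfl⟩
    obtain ⟨g, hg, hge⟩ := (mem_torusPart hF Φ).1 hζ
    obtain ⟨hXK, hXR⟩ := Subgroup.mem_inf.1 hX
    refine ⟨g * X * g⁻¹, Subgroup.mem_inf.2 ⟨K.mul_mem (K.mul_mem hg hXK) (K.inv_mem hg),
      NS_conj_RS ⟨_, ζ.ne_zero, hge⟩ hXR⟩, ?_⟩
    rw [tc_conj hF Φ.hyp hge hXR, Units.val_pow_eq_pow_val]

theorem params_P (hF : Fintype.card F = q ^ 2) (Φ : Frame F q) (K : Subgroup (SU 3 F q)) :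
    (params hF Φ K).P = Nat.card (K ⊓ QS Φ.e : Subgroup (SU 3 F q)) := by
  rw [card_subgroup_QS hF Φ.hyp _ inf_le_right, Params.P]
  congr 1
  · rw [show zp Φ.e Φ.f '' ((K ⊓ QS Φ.e : Subgroup (SU 3 F q)) : Set (SU 3 F q)) =
        (fun a : F => a • Φ.w) '' ((restCoord hF Φ K : AddSubgroup F) : Set F) by
      show _ = _ '' (Φ.al '' _)
      rw [Set.image_image]
      exact Set.image_congr fun X _ => Φ.zp_eq hF X,
      Set.ncard_image_of_injective _ (smul_left_injective F Φ.w_ne), ← Nat.card_coe_set_eq]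
    rfl
  · rw [inf_assoc, inf_eq_right.2 (RS_le_QS Φ.hyp.1)]
    rfl

/-- Proper subgroups of small index only occur for `q = 5`, with index at least `50`. -/
theorem small_index (hF : Fintype.card F = q ^ 2) (hq : 3 ≤ q) (K : Subgroup (SU 3 F q))
    (hne : K ≠ ⊤) (hZ : Subgroup.center (SU 3 F q) ≤ K) (hidx : K.index ≤ q ^ 3) :
    q = 5 ∧ 50 ≤ K.index := by
  classical
  obtain ⟨A, hA, hAK⟩ : ∃ A : SU 3 F q, IsTv (suToGU 3 F q A) ∧ A ∉ K := by
    by_contra hcon
    push Not at hcon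
    refine hne (eq_top_iff.2 ?_)
    rw [← suTransvections_closure hF (le_refl 3) (by omega : ¬ (3 = 3 ∧ q = 2)), Subgroup.closure_le]
    exact hcon
  obtain ⟨v, c, hv, hc, hT⟩ := hA
  have hv0 : v ≠ 0 := fun h0 => hAK (by
    rw [show A = 1 from suToGU_injective (GU_ext fun x => by
      rw [hT x, h0, smul_zero, add_zero]; simp)]
    exact K.one_mem)
  obtain ⟨Φ, hΦ⟩ := exists_frame_of_iso hF (v := v) ⟨hv0, hv⟩
  subst hΦ
  have hnot : ¬ RS Φ.e ≤ K := fun hle => hAK (hle ((mem_RS_iff hF Φ.hyp).2 ⟨c, hc, hT⟩))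
  have hK := transOn_of_index hF K hidx
  set Q := params hF Φ K
  have hcard : Nat.card K = (q ^ 3 + 1) * (Q.P * Q.d) := by
    rw [card_of_transOn hF Φ hK (isoVec_e Φ), card_inf_NS hF, params_P hF Φ K]
    rfl
  have hprod : K.index * (Q.P * Q.d) = q ^ 3 * (q ^ 2 - 1) := by
    have h := Subgroup.index_mul_card K
    rw [hcard, Φ.card_SU3 hF, mul_left_comm] at h
    exact Nat.eq_of_mul_eq_mul_left (Nat.succ_pos _) h
  have hbig : q ^ 2 - 1 ≤ Q.P * Q.d := by
    refine Nat.le_of_mul_le_mul_left ?_ (pow_pos (by omega : 0 < q) 3)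
    rw [← hprod]
    exact Nat.mul_le_mul_right _ hidx
  obtain ⟨p, f0, hp, hchar, hf0, hqp⟩ := q_eq_primePow hF
  haveI := hchar
  have hchar2 : Even q → (2 : F) = 0 := fun hev => by
    have h2 : p = 2 := ((Nat.prime_dvd_prime_iff_eq Nat.prime_two hp).1
      (Nat.prime_two.dvd_of_dvd_pow (hqp ▸ even_iff_two_dvd.1 hev))).symm
    subst h2
    exact_mod_cast CharP.cast_eq_zero F 2
  by_cases hB : Nat.card Q.B = 1
  swap
  · rcases chord_bound hF hq Φ hK hnot hB with ⟨hev, hB2⟩ | ⟨h9, hB3⟩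
    · obtain ⟨rfl, hP, hd⟩ := Q.caseTwo hF hq hev (hchar2 hev) hB2 hbig
      rw [hP, hd] at hcard
      exact absurd hcard (no_eight hF K)
    · subst h9
      obtain ⟨hP, hd⟩ := Params.caseThree hF Q hB3 hbig
      rw [hP, hd] at hcard
      exact absurd hcard (no_nine hF K)
  have hR : K ⊓ RS Φ.e = ⊥ := by
    rw [← Subgroup.card_eq_one, ← card_tvPart hF Φ K]
    exact hB
  rcases Nat.even_or_odd q with hev | hodd
  · obtain ⟨hP, hd⟩ := Q.caseNone_even hF (hchar2 hev) hB hbig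
    exact (no_torus_even hF hev hq Φ hK ((params_P hF Φ K).symm.trans hP) hd).elim
  have hq7 : q = 3 ∨ q = 5 ∨ 7 ≤ q := by rcases hodd with ⟨k, hk⟩; omega
  rcases Q.caseNone_odd hF hodd hB hbig with ⟨hP, hd⟩ | ⟨hP, h3, hk⟩
  · rw [hP, hd, one_mul] at hcard hprod
    rcases hq7 with rfl | rfl | h7
    · exact absurd hcard (no_three hF K)
    · refine ⟨rfl, ?_⟩
      norm_num at hprod
      omega
    exfalso
    have h49 : 7 * q ≤ q ^ 2 := by rw [sq]; exact Nat.mul_le_mul_right q h7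
    obtain ⟨c', hc', hcases⟩ := torus_odd_cases hF hodd (by omega) Φ hK hR
      (by rw [← params_P hF Φ K, hP]; exact odd_one)
      (by
        show Even Q.d
        rw [hd]
        exact Nat.Odd.sub_odd hodd.pow odd_one)
      (fun h => by
        have := Nat.le_of_dvd (by omega) h
        change Q.d ≤ _ at this
        omega)
    have hcle : c' ≤ q + 1 := Nat.le_of_dvd (by omega) (hc'.trans (Nat.gcd_dvd_right _ _))
    change (q + 1) * Q.d = _ ∨ (q + 1) * Q.d = _ ∨ (q + 1) * Q.d = _ at hcases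
    rw [hd] at hcases
    rcases Nat.lt_or_ge q 8 with h8 | h8
    · interval_cases q
      omega
    · have h64 : 8 * q ≤ q ^ 2 := by rw [sq]; exact Nat.mul_le_mul_right q h8
      have := Nat.mul_le_mul_left (q + 1) (show 61 ≤ q ^ 2 - 1 by omega)
      omega
  · rw [hP] at hcard hprod
    rcases hq7 with rfl | rfl | h7
    · omega
    · refine ⟨rfl, ?_⟩
      rcases hk with hk | hk
      · rw [show Q.d = 12 by omega] at hprod
        norm_num at hprod
        omega
      · rw [show Q.d = 6 by omega] at hprod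
        norm_num at hprod
        omega
    exfalso
    have h11 : 11 ≤ q := by rcases hodd with ⟨k, hk'⟩; omega
    have hPodd : Odd (Nat.card (K ⊓ QS Φ.e : Subgroup (SU 3 F q))) := by
      rw [← params_P hF Φ K]; exact hP.symm ▸ hodd
    have hde : Even Q.d := by
      haveI : Fact (Nat.Prime 2) := ⟨Nat.prime_two⟩
      obtain ⟨y, hy⟩ := exists_prime_orderOf_dvd_card' (G := K) 2 (by
        rw [hcard]
        refine dvd_mul_of_dvd_left ?_ _
        exact even_iff_two_dvd.1 (hodd.pow.add_odd odd_one))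
      have hy2 : (y : SU 3 F q) * y = 1 := by
        have := pow_orderOf_eq_one y
        rw [hy, sq] at this
        exact congrArg Subtype.val this
      have hy1 : (y : SU 3 F q) ≠ 1 := fun h => by
        rw [show y = 1 from Subtype.ext h, orderOf_one] at hy
        omega
      obtain ⟨u, hu, hyu⟩ := exists_neg_isotropic hF hodd hy2 hy1
      obtain ⟨k, hk', a, ha, hka⟩ := hK Φ.e u (isoVec_e Φ) hu trivial trivial
      have hze : (k⁻¹ * y.1 * k).1.1 *ᵥ Φ.e = (((-1 : Fˣ)) : F) • Φ.e := by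
        rw [Unitary.SU_mul_mulVec, Unitary.SU_mul_mulVec, hka, Matrix.mulVec_smul, hyu, smul_neg,
          Matrix.mulVec_neg, ← hka, Unitary.SU_inv_mulVec]
        simp
      have hmem : (-1 : Fˣ) ∈ torusPart hF Φ K :=
        (mem_torusPart hF Φ).2 ⟨_, K.mul_mem (K.mul_mem (K.inv_mem hk') y.2) hk', hze⟩
      have hord : orderOf (-1 : Fˣ) = 2 := orderOf_eq_prime (by simp) (fun h => by
        have h2 := congrArg Units.val h
        simp at h2
        exact SU3Invol.two_ne hF hodd (by linear_combination -h2))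
      exact even_iff_two_dvd.2 (hord ▸ Subgroup.orderOf_dvd_natCard _ hmem)
    have hd3 : Q.d ∣ 3 * (q - 1) := by
      rcases hk with hk | hk
      · exact dvd_of_eq hk
      · exact Dvd.intro_left _ hk
    have hd2 : ¬ Q.d ∣ 2 * (q + 1) := by
      intro h
      have h1 : Q.d ∣ 6 * (q + 1) := h.trans ⟨3, by ring⟩
      have h2 : Q.d ∣ 6 * (q - 1) := hd3.trans ⟨2, by ring⟩
      have h3' := Nat.le_of_dvd (by omega) (Nat.dvd_sub h1 h2)
      omega
    obtain ⟨c', hc', hcases⟩ := torus_odd_cases hF hodd (by omega) Φ hK hR hPodd hde hd2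
    have hc6 : c' ≤ 6 := by
      have h1 : c' ∣ 3 * (q - 1) := (hc'.trans (Nat.gcd_dvd_left _ _)).trans hd3
      have h2 : c' ∣ 3 * (q + 1) := (hc'.trans (Nat.gcd_dvd_right _ _)).trans (Dvd.intro_left 3 rfl)
      have h3' := Nat.le_of_dvd (by omega) (Nat.dvd_sub h2 h1)
      omega
    change (q + 1) * Q.d = _ ∨ (q + 1) * Q.d = _ ∨ (q + 1) * Q.d = _ at hcases
    have hq13 : q < 16 := by
      by_contra h16
      push Not at h16
      have hd22 : 22 ≤ Q.d := by omega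
      have := Nat.mul_le_mul (show 17 ≤ q + 1 by omega) hd22
      omega
    interval_cases q <;> first | omega | skip
    have hd30 : Q.d = 30 := by
      rcases hk with hk | hk
      · omega
      · exact absurd hde (by rw [show Q.d = 15 by omega]; decide)
    rw [hd30] at hcard
    refine no_eleven hF K hZ (fun u hu => ?_) hcard
    obtain ⟨k, hk', a, ha, hka⟩ := hK Φ.e u (isoVec_e Φ) hu trivial trivial
    obtain ⟨X, hX, hX1⟩ : ∃ X ∈ K ⊓ QS Φ.e, X ≠ 1 := by
      by_contra hcon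
      push Not at hcon
      have h1 := (Subgroup.eq_bot_iff_forall _).2 hcon
      rw [params_P hF Φ K, h1, Subgroup.card_bot] at hP
      omega
    obtain ⟨hXK, hXQ⟩ := Subgroup.mem_inf.1 hX
    refine ⟨k * X * k⁻¹, K.mul_mem (K.mul_mem hk' hXK) (K.inv_mem hk'), ?_,
      fun h => hX1 (by simpa using h)⟩
    have := QS_conj k hXQ
    rwa [hka, QS_smul ha] at this

end Cfsg.Agent.Lib.MinIndexPSU3
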